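import Mathlib
import Cfsg.Agent.Solvable.Fitting

/-!
# Half transitive actions of odd order groups on elementary abelian two-groups
-/

set_option autoImplicit false
set_option linter.style.haveILetI false
set_option maxHeartbeats 1000000

namespace CfsgLib.FiveOrbits

open Subgroup MulAction

section action

variable {K V : Type*} [Group K] [Finite K] [CommGroup V] [MulDistribMulAction K V]

/-- The product of the translates of `v` under `H`. -/
noncomputable def nm (H : Subgroup K) (v : V) : V :=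
  haveI := Fintype.ofFinite H
  ∏ h : H, (h : K) • v

theorem nm_mul (H : Subgroup K) (v w : V) : nm H (v * w) = nm H v * nm H w := by
  simp only [nm, smul_mul', Finset.prod_mul_distrib]

theorem smul_nm_self {H : Subgroup K} {g : K} (hg : g ∈ H) (v : V) : g • nm H v = nm H v := by
  letI := Fintype.ofFinite H
  simp only [nm, Finset.smul_prod']
  exact Fintype.prod_equiv (Equiv.mulLeft (⟨g, hg⟩ : H)) _ _ fun h => by simp [mul_smul]

theorem nm_of_fixed (hV : ∀ v : V, v * v = 1) (hodd : Odd (Nat.card K)) {H : Subgroup K} {v : V}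
    (h : ∀ g ∈ H, g • v = v) : nm H v = v := by
  letI := Fintype.ofFinite H
  obtain ⟨k, hk⟩ := Odd.of_dvd_nat hodd (card_subgroup_dvd_card H)
  simp only [nm]
  rw [Finset.prod_congr rfl fun (g : H) _ => h g g.2, Finset.prod_const, Finset.card_univ,
    ← Nat.card_eq_fintype_card, hk, pow_succ, pow_mul, pow_two, hV, one_pow, one_mul]

theorem smul_nm (H : Subgroup K) (g : K) (v : V) :
    g • nm H v = nm (H.map (MulAut.conj g).toMonoidHom) (g • v) := by
  letI := Fintype.ofFinite H
  letI := Fintype.ofFinite (H.map (MulAut.conj g).toMonoidHom)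
  unfold nm
  rw [Finset.smul_prod']
  refine @Fintype.prod_equiv _ _ _ (Fintype.ofFinite H) (Fintype.ofFinite _) _
    ((MulAut.conj g).subgroupMap H).toEquiv _ _ fun h => ?_
  show g • (h : K) • v = (g * (h : K) * g⁻¹) • (g • v)
  simp [mul_smul]

theorem nm_one (H : Subgroup K) : nm H (1 : V) = 1 := by simp [nm]

theorem smul_nm_of_commute {H : Subgroup K} {g : K} (hc : ∀ h ∈ H, Commute g h) (v : V) :
    g • nm H v = nm H (g • v) := by
  letI := Fintype.ofFinite H
  simp only [nm, Finset.smul_prod']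
  exact Finset.prod_congr rfl fun h _ => by rw [← mul_smul, (hc h h.2).eq, mul_smul]

/-- Equal point stabilisers: a nontrivial normal subgroup has no nontrivial fixed point. -/
theorem noFix (hV : ∀ v : V, v * v = 1) (hodd : Odd (Nat.card K))
    (hfaith : ∀ g : K, (∀ v : V, g • v = v) → g = 1)
    (hst : ∀ v w : V, v ≠ 1 → w ≠ 1 → Nat.card (stabilizer K v) = Nat.card (stabilizer K w))
    {B : Subgroup K} [hB : B.Normal] (hB1 : B ≠ ⊥) {v : V} (hv : ∀ b ∈ B, b • v = v) : v = 1 := by
  by_contra hv1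
  obtain ⟨⟨b, hb⟩, hb1'⟩ := Subgroup.ne_bot_iff_exists_ne_one.1 hB1
  have hb1 : b ≠ 1 := fun h => hb1' (Subtype.ext h)
  obtain ⟨u, hu⟩ : ∃ u : V, b • u ≠ u := by
    by_contra! h
    exact hb1 (hfaith b h)
  set a := nm B u with ha
  have hfix : ∀ g ∈ B, g • a = a := fun g hg => smul_nm_self hg u
  set c := u * a with hc
  have hNc : nm B c = 1 := by rw [hc, nm_mul, nm_of_fixed hV hodd hfix, ← ha, hV]
  have hbc : b • c ≠ c := by
    intro h
    rw [hc, smul_mul', hfix b hb, mul_left_inj] at h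
    exact hu h
  have hc1 : c ≠ 1 := fun h => hbc (by rw [h, smul_one])
  set w := v * c with hw
  have hw1 : w ≠ 1 := by
    intro h
    have hcv : c = v := by
      calc c = (v * v) * c := by rw [hV, one_mul]
        _ = v * (v * c) := mul_assoc _ _ _
        _ = v := by rw [← hw, h, mul_one]
    exact hbc (by rw [hcv, hv b hb])
  have hNw : nm B w = v := by rw [hw, nm_mul, hNc, mul_one, nm_of_fixed hV hodd hv]
  have hle : stabilizer K w ≤ stabilizer K v := by
    intro g hg
    rw [mem_stabilizer_iff] at hg ⊢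
    conv_lhs => rw [← hNw]
    rw [smul_nm, hg]
    convert hNw
    exact normalizer_eq_top_iff.2 hB |> fun h =>
      (Subgroup.mem_normalizer_iff_map_conj_eq (g := g)).1 (h ▸ Subgroup.mem_top g)
  have hlec : stabilizer K w ≤ stabilizer K c := by
    intro g hg
    have hgv := hle hg
    rw [mem_stabilizer_iff] at hg hgv ⊢
    rw [hw, smul_mul', hgv, mul_right_inj] at hg
    exact hg
  have e1 := Subgroup.eq_of_le_of_card_ge hle (hst v w hv1 hw1).le
  have : b ∈ stabilizer K c := hlec (e1 ▸ mem_stabilizer_iff.2 (hv b hb))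
  exact hbc (mem_stabilizer_iff.1 this)

theorem smul_cycle {d : K} {p : ℕ} (hd : d ^ p = 1) (w : V) :
    d • (∏ i ∈ Finset.range p, d ^ i • w) = ∏ i ∈ Finset.range p, d ^ i • w := by
  simp only [Finset.smul_prod', ← mul_smul, ← pow_succ']
  have h := Finset.prod_range_succ' (fun i => d ^ i • w) p
  rw [Finset.prod_range_succ, hd, pow_zero] at h
  exact (mul_right_cancel h).symm

/-- A family of cyclic subgroups covering a group with fixed point free normal part. -/
theorem exists_fixed_of_family [Nontrivial V] (hV : ∀ v : V, v * v = 1) {p q : ℕ} (hp : Odd p)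
    (hq : 0 < q) (y : ℕ → K) (hy : ∀ i, y i ^ q = 1) (d x : ℕ → K)
    (hyd : ∀ i j, 0 < j → j < q → y i ^ j = d j ^ i * x j)
    (hdp : ∀ j, 0 < j → j < q → d j ^ p = 1)
    (hd : ∀ j, 0 < j → j < q → ∀ v : V, d j • v = v → v = 1) :
    ∃ i, i < p ∧ ∃ v : V, v ≠ 1 ∧ y i • v = v := by
  by_contra! hno
  obtain ⟨v, hv⟩ := exists_ne (1 : V)
  have h1 : ∏ i ∈ Finset.range p, ∏ j ∈ Finset.range q, y i ^ j • v = 1 :=
    Finset.prod_eq_one fun i hi => by_contra fun h =>
      hno i (Finset.mem_range.1 hi) _ h (smul_cycle (hy i) v)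
  rw [Finset.prod_comm, Finset.prod_eq_single 0] at h1
  · obtain ⟨k, hk⟩ := hp
    simp only [pow_zero, one_smul, Finset.prod_const, Finset.card_range] at h1
    rw [hk, pow_succ, pow_mul, pow_two, hV, one_pow, one_mul] at h1
    exact hv h1
  · intro j hj hj0
    have hj' := Finset.mem_range.1 hj
    have hpos : 0 < j := by omega
    rw [Finset.prod_congr rfl fun i _ => show y i ^ j • v = d j ^ i • (x j • v) by
      rw [hyd i j hpos hj', mul_smul]]
    exact hd j hpos hj' _ (smul_cycle (hdp j hpos hj') _)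
  · intro h
    exact absurd (Finset.mem_range.2 hq) h

/-- No normal elementary abelian subgroup of rank two. -/
theorem noRankTwo [Nontrivial V] (hV : ∀ v : V, v * v = 1) (hodd : Odd (Nat.card K))
    (hfaith : ∀ g : K, (∀ v : V, g • v = v) → g = 1)
    (hst : ∀ v w : V, v ≠ 1 → w ≠ 1 → Nat.card (stabilizer K v) = Nat.card (stabilizer K w))
    {p : ℕ} (hp : p.Prime) {E : Subgroup K} [hE : E.Normal] (hcard : Nat.card E = p ^ 2)
    (hexp : ∀ e ∈ E, e ^ p = 1) : False := by
  haveI := Fact.mk hp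
  have hpodd : Odd p := by
    refine Odd.of_dvd_nat hodd ?_
    exact (dvd_pow_self p two_ne_zero).trans (hcard ▸ card_subgroup_dvd_card E)
  have hcomm : ∀ a ∈ E, ∀ b ∈ E, Commute a b := by
    intro a ha b hb
    haveI := IsPGroup.isMulCommutative_of_card_eq_prime_sq (G := E) hcard
    exact congrArg Subtype.val (mul_comm' (⟨a, ha⟩ : E) ⟨b, hb⟩)
  have hE1 : E ≠ ⊥ := by
    rintro rfl
    rw [Subgroup.card_bot] at hcard
    exact absurd hcard.symm (Nat.one_lt_pow two_ne_zero hp.one_lt).ne'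
  have hEfix : ∀ v : V, (∀ e ∈ E, e • v = v) → v = 1 := fun v hv =>
    noFix hV hodd hfaith hst hE1 hv
  have horder : ∀ e ∈ E, e ≠ 1 → orderOf e = p := fun e he h1 =>
    orderOf_eq_prime (hexp e he) h1
  obtain ⟨e, heE, he1, a, ha1, hea⟩ : ∃ e ∈ E, e ≠ 1 ∧ ∃ a : V, a ≠ 1 ∧ e • a = a := by
    by_contra! hno
    obtain ⟨⟨x, hxE⟩, hx1'⟩ := Subgroup.ne_bot_iff_exists_ne_one.1 hE1
    have hx1 : x ≠ 1 := fun h => hx1' (Subtype.ext h)
    obtain ⟨y, hyE, hyx⟩ : ∃ y ∈ E, y ∉ zpowers x := by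
      by_contra! h
      have := Subgroup.card_le_of_le h
      rw [hcard, Nat.card_zpowers, horder x hxE hx1] at this
      exact absurd this (not_le.2 (lt_self_pow₀ hp.one_lt one_lt_two))
    obtain ⟨i, -, v, hv1, hv⟩ := exists_fixed_of_family hV hpodd hp.pos (fun i => x ^ i * y)
      (fun i => hexp _ (E.mul_mem (E.pow_mem hxE i) hyE)) (fun j => x ^ j) (fun j => y ^ j)
      (fun i j _ _ => by
        rw [((hcomm x hxE y hyE).pow_left i).mul_pow, ← pow_mul, ← pow_mul, mul_comm i j])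
      (fun j _ _ => by rw [← pow_mul, mul_comm, pow_mul, hexp x hxE, one_pow])
      (fun j h0 hj v hv => by
        by_contra h
        exact hno _ (E.pow_mem hxE j)
          (pow_ne_one_of_lt_orderOf h0.ne' (by rw [horder x hxE hx1]; exact hj)) v h hv)
    refine hno _ (E.mul_mem (E.pow_mem hxE i) hyE) (fun h => hyx ?_) v hv1 hv
    rw [eq_inv_of_mul_eq_one_right h]
    exact inv_mem (pow_mem (mem_zpowers x) i)
  set H₁ := zpowers e with hH₁
  have hH₁E : H₁ ≤ E := by rwa [hH₁, zpowers_le]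
  have hH₁c : Nat.card H₁ = p := by rw [hH₁, Nat.card_zpowers, horder e heE he1]
  have hfix₁ : ∀ g ∈ H₁, g • a = a := fun g hg =>
    mem_stabilizer_iff.1 ((zpowers_le.2 (mem_stabilizer_iff.2 hea) : H₁ ≤ stabilizer K a) hg)
  obtain ⟨g₀, hg₀⟩ : ∃ g : K, H₁.map (MulAut.conj g).toMonoidHom ≠ H₁ := by
    by_contra! h
    haveI : H₁.Normal := normalizer_eq_top_iff.1 (eq_top_iff.2 fun g _ =>
      mem_normalizer_iff_map_conj_eq.2 (h g))
    refine ha1 (noFix hV hodd hfaith hst (B := H₁) ?_ hfix₁)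
    rw [hH₁, Ne, zpowers_eq_bot]
    exact he1
  set H₂ := H₁.map (MulAut.conj g₀).toMonoidHom with hH₂
  have hmapE : ∀ (g : K) (H : Subgroup K), H ≤ E → H.map (MulAut.conj g).toMonoidHom ≤ E := by
    rintro g H hH _ ⟨h, hh, rfl⟩
    exact hE.conj_mem h (hH hh) g
  have hmapc : ∀ (g : K) (H : Subgroup K),
      Nat.card (H.map (MulAut.conj g).toMonoidHom) = Nat.card H := fun g H =>
    Subgroup.card_map_of_injective (MulAut.conj g).injective
  have hH₂E : H₂ ≤ E := hmapE g₀ H₁ hH₁E
  have hH₂c : Nat.card H₂ = p := (hmapc g₀ H₁).trans hH₁c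
  set b := g₀ • a with hb
  have hb1 : b ≠ 1 := by simpa [hb, smul_eq_iff_eq_inv_smul] using ha1
  have hfix₂ : ∀ g ∈ H₂, g • b = b := by
    rintro _ ⟨h, hh, rfl⟩
    simp [hb, ← mul_smul]
    rw [mul_smul, hfix₁ h hh]
  have hcross : ∀ (H H' : Subgroup K) (t : V), H ≤ E → Nat.card H = p → H' ≤ E → H' ≠ H →
      Nat.card H' = p → (∀ g ∈ H', g • t = t) → nm H t = 1 := by
    intro H H' t hH hHc hH' hne hH'c ht
    refine hEfix _ ?_
    have hle : H ⊔ H' ≤ stabilizer K (nm H t) := by
      refine sup_le (fun g hg => mem_stabilizer_iff.2 (smul_nm_self hg t)) fun g hg => ?_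
      rw [mem_stabilizer_iff, smul_nm_of_commute (fun h hh => hcomm g (hH' hg) h (hH hh)), ht g hg]
    have heq : H ⊔ H' = E := by
      refine Subgroup.eq_of_le_of_card_ge (sup_le hH hH') ?_
      have h1 := card_dvd_of_le (le_sup_left (a := H) (b := H'))
      have h2 := card_dvd_of_le (sup_le hH hH' : H ⊔ H' ≤ E)
      rw [hHc] at h1
      rw [hcard] at h2 ⊢
      obtain ⟨i, hi, hi'⟩ := (Nat.dvd_prime_pow hp).1 h2
      rw [hi'] at h1 ⊢
      rcases (show i = 0 ∨ i = 1 ∨ i = 2 by omega) with rfl | rfl | rfl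
      · rw [pow_zero] at h1
        exact absurd (Nat.le_of_dvd one_pos h1) (not_le.2 hp.one_lt)
      · exfalso
        rw [pow_one] at hi'
        have e1 := Subgroup.eq_of_le_of_card_ge (le_sup_left (a := H) (b := H')) (by rw [hi', hHc])
        exact hne (Subgroup.eq_of_le_of_card_ge (e1 ▸ le_sup_right) (by rw [hHc, hH'c]))
      · exact le_rfl
    intro g hg
    exact mem_stabilizer_iff.1 (hle (heq ▸ hg))
  set w := a * b with hw
  have hN₁ : nm H₁ w = a := by
    rw [hw, nm_mul, hcross H₁ H₂ b hH₁E hH₁c hH₂E hg₀ hH₂c hfix₂, mul_one,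
      nm_of_fixed hV hodd hfix₁]
  have hN₂ : nm H₂ w = b := by
    rw [hw, nm_mul, hcross H₂ H₁ a hH₂E hH₂c hH₁E hg₀.symm hH₁c hfix₁, one_mul,
      nm_of_fixed hV hodd hfix₂]
  have hw1 : w ≠ 1 := fun h => ha1 (by rw [← hN₁, h, nm_one])
  have hpair : ∀ H : Subgroup K, H ≤ E → Nat.card H = p → nm H w ≠ 1 → H = H₁ ∨ H = H₂ := by
    intro H hH hHc hne
    by_contra! h
    rw [hw, nm_mul, hcross H H₁ a hH hHc hH₁E h.1.symm hH₁c hfix₁,
      hcross H H₂ b hH hHc hH₂E h.2.symm hH₂c hfix₂, one_mul] at hne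
    exact hne rfl
  have key : ∀ g ∈ stabilizer K w, g ∈ stabilizer K a ∧ g ∈ stabilizer K b := by
    intro g hg
    rw [mem_stabilizer_iff] at hg
    have h₁ : nm (H₁.map (MulAut.conj g).toMonoidHom) w = g • a := by
      rw [← hN₁, smul_nm, hg]
    have h₂ : nm (H₂.map (MulAut.conj g).toMonoidHom) w = g • b := by
      rw [← hN₂, smul_nm, hg]
    have hgH : H₁.map (MulAut.conj g).toMonoidHom = H₁ := by
      rcases hpair _ (hmapE g H₁ hH₁E) ((hmapc g H₁).trans hH₁c)
        (by rw [h₁]; simpa [smul_eq_iff_eq_inv_smul] using ha1) with h | h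
      · exact h
      exfalso
      have h' : H₂.map (MulAut.conj g).toMonoidHom = H₁ := by
        refine (hpair _ (hmapE g H₂ hH₂E) ((hmapc g H₂).trans hH₂c)
          (by rw [h₂]; simpa [smul_eq_iff_eq_inv_smul] using hb1)).resolve_right fun h'' => ?_
        exact hg₀ (Subgroup.map_injective (f := (MulAut.conj g).toMonoidHom)
          (MulAut.conj g).injective (h''.trans h.symm))
      have hsq : ∀ n : ℕ, (g * g) ^ n ∈ normalizer (H₁ : Set K) := fun n =>
        pow_mem (mem_normalizer_iff_map_conj_eq.2 (by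
          conv_rhs => rw [← h', ← h, Subgroup.map_map]
          congr 1
          ext
          simp [mul_assoc])) n
      obtain ⟨k, hk⟩ := Odd.of_dvd_nat hodd (orderOf_dvd_natCard g)
      have hg2 : (g * g) ^ (k + 1) = g := by
        rw [← pow_two, ← pow_mul, show 2 * (k + 1) = orderOf g + 1 by omega, pow_succ,
          pow_orderOf_eq_one, one_mul]
      exact hg₀ (h.symm.trans (mem_normalizer_iff_map_conj_eq.1 (hg2 ▸ hsq (k + 1))))
    have hga : g • a = a := by rw [← h₁, hgH, hN₁]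
    refine ⟨hga, ?_⟩
    rw [hw, smul_mul', hga, mul_right_inj] at hg
    exact hg
  have e1 : stabilizer K w = stabilizer K a :=
    Subgroup.eq_of_le_of_card_ge (fun g hg => (key g hg).1) (hst a w ha1 hw1).le
  refine hb1 (hEfix b fun g hg => ?_)
  have hH₁b : H₁ ≤ stabilizer K b := fun g hg =>
    (key g (e1 ▸ mem_stabilizer_iff.2 (hfix₁ g hg))).2
  rw [← mem_stabilizer_iff]
  have hle : H₁ ⊔ H₂ ≤ stabilizer K b :=
    sup_le hH₁b fun g hg => mem_stabilizer_iff.2 (hfix₂ g hg)
  refine hle ?_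
  have heq : H₁ ⊔ H₂ = E := by
    refine Subgroup.eq_of_le_of_card_ge (sup_le hH₁E hH₂E) ?_
    have h2 := card_dvd_of_le (sup_le hH₁E hH₂E : H₁ ⊔ H₂ ≤ E)
    rw [hcard] at h2 ⊢
    obtain ⟨i, hi, hi'⟩ := (Nat.dvd_prime_pow hp).1 h2
    rcases (show i ≤ 1 ∨ i = 2 by omega) with h | rfl
    · exfalso
      have hle' : Nat.card ↥(H₁ ⊔ H₂) ≤ p := by
        rw [hi']
        exact (Nat.pow_le_pow_right hp.pos h).trans (pow_one p).le
      have ea := Subgroup.eq_of_le_of_card_ge (le_sup_left (a := H₁) (b := H₂))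
        (by rw [hH₁c]; exact hle')
      exact hg₀ (Subgroup.eq_of_le_of_card_ge (ea ▸ le_sup_right) (by rw [hH₁c, hH₂c]))
    · exact hi'.ge
  exact heq.symm ▸ hg

/-- The complement of a fixed point free normal subgroup of prime order has a fixed point. -/
theorem frobFixed [Nontrivial V] (hV : ∀ v : V, v * v = 1) {p q : ℕ} (hp : Odd p) (hq : 0 < q)
    {c x : K} (hcp : c ^ p = 1) [hn : (zpowers c).Normal]
    (hfree : ∀ d ∈ zpowers c, d ≠ 1 → ∀ v : V, d • v = v → v = 1) (hxq : x ^ q = 1)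
    (hnc : ∀ j, 0 < j → j < q → ¬ Commute (x ^ j) c) : ∃ v : V, v ≠ 1 ∧ x • v = v := by
  have hmem : ∀ j, c * (x ^ j * c⁻¹ * (x ^ j)⁻¹) ∈ zpowers c := fun j =>
    mul_mem (mem_zpowers c) (hn.conj_mem _ (inv_mem (mem_zpowers c)) (x ^ j))
  obtain ⟨i, -, v, hv1, hv⟩ := exists_fixed_of_family hV hp hq (fun i => c ^ i * x * (c ^ i)⁻¹)
    (fun i => by rw [conj_pow, hxq, mul_one, mul_inv_cancel])
    (fun j => c * (x ^ j * c⁻¹ * (x ^ j)⁻¹)) (fun j => x ^ j)
    (fun i j _ _ => by
      obtain ⟨n, hn'⟩ := mem_zpowers_iff.1 (hn.conj_mem _ (inv_mem (mem_zpowers c)) (x ^ j))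
      rw [conj_pow, (show Commute c (x ^ j * c⁻¹ * (x ^ j)⁻¹) from
        hn' ▸ (Commute.refl c).zpow_right n).mul_pow, conj_pow, inv_pow]
      group)
    (fun j _ _ => by
      obtain ⟨n, hn'⟩ := mem_zpowers_iff.1 (hmem j)
      rw [← hn', ← zpow_natCast, ← zpow_mul, mul_comm, zpow_mul, zpow_natCast, hcp, one_zpow])
    (fun j h0 hj => hfree _ (hmem j) fun h => hnc j h0 hj (by
      rw [← mul_assoc, ← mul_assoc, mul_inv_eq_one] at h
      exact (mul_inv_eq_iff_eq_mul.1 h).symm))
  refine ⟨(c ^ i)⁻¹ • v, by simpa [smul_eq_iff_eq_inv_smul] using hv1, ?_⟩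
  rw [eq_inv_smul_iff, ← mul_smul, ← mul_smul]
  exact hv

end action

/-- The possible groups. -/
theorem structure_of_halfTrans {K V : Type*} [Group K] [Finite K] [CommGroup V]
    [MulDistribMulAction K V] [Group.IsSolvable K] [Nontrivial K] [Nontrivial V]
    (hV : ∀ v : V, v * v = 1) (hodd : Odd (Nat.card K))
    (horder : ∀ g : K, g ≠ 1 → (orderOf g).Prime)
    (hfaith : ∀ g : K, (∀ v : V, g • v = v) → g = 1)
    (hst : ∀ v w : V, v ≠ 1 → w ≠ 1 → Nat.card (stabilizer K v) = Nat.card (stabilizer K w))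
    (hh : ∀ P : Subgroup K, P.Characteristic →
      ∀ v w : V, v ≠ 1 → w ≠ 1 → Nat.card (stabilizer P v) = Nat.card (stabilizer P w)) :
    ∃ p : ℕ, p.Prime ∧ ((Nat.card K = p ∧ ∀ v : V, v ≠ 1 → stabilizer K v = ⊥) ∨
      ∃ q : ℕ, q.Prime ∧ q ∣ p - 1 ∧ Nat.card K = p * q ∧
        ∀ v : V, v ≠ 1 → Nat.card (stabilizer K v) = q) := by
  classical
  obtain ⟨p, hp, hP1⟩ : ∃ p : ℕ, p.Prime ∧ Cfsg.pCore p K ≠ ⊥ := by
    by_contra! h
    refine Solvable.fittingSubgroup_ne_bot (G := K) ?_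
    rw [Solvable.fittingSubgroup_eq_iSup]
    refine iSup_eq_bot.2 fun q => ?_
    exact h _ q.2
  haveI := Fact.mk hp
  set P := Cfsg.pCore p K with hPdef
  haveI hPn : P.Normal := Solvable.pCore_normal p
  have hPp : IsPGroup p P := Solvable.isPGroup_pCore p
  have hPexp : ∀ g ∈ P, g ≠ 1 → orderOf g = p := by
    intro g hg h1
    obtain ⟨k, hk⟩ := IsPGroup.iff_orderOf.1 hPp ⟨g, hg⟩
    rw [Subgroup.orderOf_mk] at hk
    have := horder g h1
    rw [hk] at this ⊢
    rw [Nat.Prime.eq_one_of_pow this, pow_one]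
  have hpodd : Odd p := by
    refine Odd.of_dvd_nat hodd ?_
    obtain ⟨⟨g, hg⟩, h1⟩ := Subgroup.ne_bot_iff_exists_ne_one.1 hP1
    rw [← hPexp g hg (fun h => h1 (Subtype.ext h))]
    exact orderOf_dvd_natCard g
  have hPc : Nat.card P = p := by
    obtain ⟨n, hn⟩ := IsPGroup.iff_card.1 hPp
    have hn0 : n ≠ 0 := by
      rintro rfl
      exact hP1 (Subgroup.eq_bot_of_card_eq P (by simpa using hn))
    by_contra hne
    haveI : Nontrivial P := (Subgroup.nontrivial_iff_ne_bot P).2 hP1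
    haveI := hPp.center_nontrivial
    obtain ⟨⟨z, hzc⟩, hz1⟩ := exists_ne (1 : center P)
    have hzo : orderOf z = p := by
      rw [← Subgroup.orderOf_coe]
      exact hPexp z z.2 fun h => hz1 (Subtype.ext (Subtype.ext h))
    set Z := zpowers z with hZ
    haveI : Z.Normal := ⟨fun a ha g => by
      rw [mem_center_iff.1 ((zpowers_le.2 hzc : Z ≤ center P) ha) g, mul_inv_cancel_right]
      exact ha⟩
    have hZc : Nat.card Z = p := by rw [hZ, Nat.card_zpowers, hzo]
    haveI : Nontrivial (P ⧸ Z) := by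
      rw [← Finite.one_lt_card_iff_nontrivial, ← Subgroup.index]
      by_contra h
      have hi : Z.index = 1 := le_antisymm (by omega) (Nat.pos_of_ne_zero Subgroup.index_ne_zero_of_finite)
      have := Z.card_mul_index
      rw [hi, mul_one, hZc] at this
      exact hne this.symm
    haveI := (hPp.to_quotient Z).center_nontrivial
    obtain ⟨m, hm0, hm⟩ := ((hPp.to_quotient Z).to_subgroup (center (P ⧸ Z))).nontrivial_iff_card.1
      inferInstance
    obtain ⟨w, hw⟩ := exists_prime_orderOf_dvd_card' (G := center (P ⧸ Z)) p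
      (by rw [hm]; exact dvd_pow_self p hm0.ne')
    have hwn : (zpowers (w : P ⧸ Z)).Normal := ⟨fun a ha g => by
      rw [mem_center_iff.1 ((zpowers_le.2 w.2 : zpowers (w : P ⧸ Z) ≤ center _) ha) g,
        mul_inv_cancel_right]
      exact ha⟩
    set E := (zpowers (w : P ⧸ Z)).comap (QuotientGroup.mk' Z) with hEdef
    haveI : E.Normal := hwn.comap _
    have hEc : Nat.card E = p ^ 2 := by
      have h1 := E.card_mul_index
      rw [hEdef, Subgroup.index_comap_of_surjective _ (QuotientGroup.mk'_surjective Z), ← hEdef]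
        at h1
      have h2 := (zpowers (w : P ⧸ Z)).card_mul_index
      have h3 := Z.card_mul_index
      rw [Nat.card_zpowers, Subgroup.orderOf_coe, hw] at h2
      rw [Subgroup.index, ← h2, hZc] at h3
      have h4 : (zpowers (w : P ⧸ Z)).index ≠ 0 := Subgroup.index_ne_zero_of_finite
      rw [← h3, ← mul_assoc] at h1
      rw [pow_two]
      exact mul_right_cancel₀ h4 h1
    refine noRankTwo (K := P) hV (Odd.of_dvd_nat hodd (card_subgroup_dvd_card P))
      (fun g hg => Subtype.ext (hfaith g hg)) (hh P (Solvable.pCore_characteristic p)) hp hEc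
      fun e _ => ?_
    rcases eq_or_ne e 1 with rfl | h
    · exact one_pow p
    · refine Subtype.ext ?_
      rw [SubmonoidClass.coe_pow, ← hPexp e e.2 fun h' => h (Subtype.ext h'),
        pow_orderOf_eq_one, OneMemClass.coe_one]
  haveI : IsCyclic P := isCyclic_of_prime_card hPc
  have hfree : ∀ d ∈ P, d ≠ 1 → ∀ v : V, d • v = v → v = 1 := by
    intro d hd h1 v hv
    have hz : zpowers d = P := Subgroup.eq_of_le_of_card_ge (zpowers_le.2 hd)
      (by rw [Nat.card_zpowers, hPexp d hd h1, hPc])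
    refine noFix hV hodd hfaith hst (B := P) hP1 fun b hb => ?_
    rw [← hz] at hb
    exact mem_stabilizer_iff.1 ((zpowers_le.2 (mem_stabilizer_iff.2 hv) : zpowers d ≤ _) hb)
  have hcent : Subgroup.centralizer (P : Set K) ≤ P := by
    haveI : (Subgroup.centralizer (P : Set K)).Normal := inferInstance
    refine Solvable.le_pCore (IsPGroup.iff_orderOf.2 fun g => ?_)
    rcases eq_or_ne (g : K) 1 with h1 | h1
    · exact ⟨0, by rw [← Subgroup.orderOf_coe, h1, orderOf_one, pow_zero]⟩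
    refine ⟨1, ?_⟩
    rw [← Subgroup.orderOf_coe, pow_one]
    by_contra hne
    obtain ⟨⟨c, hc⟩, hc1⟩ := Subgroup.ne_bot_iff_exists_ne_one.1 hP1
    have hco := hPexp c hc fun h => hc1 (Subtype.ext h)
    have hcg : Commute c (g : K) := mem_centralizer_iff.1 g.2 c hc
    have hcop : (orderOf c).Coprime (orderOf (g : K)) := by
      rw [hco]
      exact (Nat.coprime_primes hp (horder g h1)).2 (Ne.symm hne)
    have hmul := hcg.orderOf_mul_eq_mul_orderOf_of_coprime hcop
    have hne1 : c * (g : K) ≠ 1 := by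
      intro h
      rw [h, orderOf_one, hco] at hmul
      exact absurd (Nat.eq_one_of_mul_eq_one_right hmul.symm) hp.one_lt.ne'
    have := horder _ hne1
    rw [hmul, hco] at this
    exact Nat.not_prime_mul hp.one_lt.ne' (horder g h1).one_lt.ne' this
  let φ : K →* MulAut P := MulAut.conjNormal
  have hker : φ.ker = P := by
    refine le_antisymm (fun g hg => hcent (mem_centralizer_iff.2 fun c hc => ?_)) fun g hg => ?_
    · have := congrArg (fun f : MulAut P => ((f ⟨c, hc⟩ : P) : K)) hg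
      simp [φ] at this
      exact (mul_inv_eq_iff_eq_mul.1 this).symm
    · refine MulEquiv.ext fun c => Subtype.ext ?_
      have hcomm : Commute g (c : K) := by
        haveI := IsCyclic.commGroup (α := P)
        exact congrArg Subtype.val (mul_comm' (⟨g, hg⟩ : P) c)
      simp [φ, hcomm.eq]
  have hcardK : Nat.card K = p * Nat.card φ.range := by
    rw [← φ.ker.card_mul_index, Subgroup.index_ker φ, hker, hPc]
  have hrc : Nat.card φ.range ∣ p - 1 := by
    refine (card_subgroup_dvd_card φ.range).trans ?_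
    rw [IsCyclic.card_mulAut, hPc, Nat.totient_prime hp]
  haveI : IsCyclic φ.range := by
    let e := IsCyclic.mulAutMulEquiv P
    haveI : NeZero (Nat.card P) := ⟨Nat.card_pos.ne'⟩
    haveI : Fact (Nat.card P).Prime := ⟨hPc.symm ▸ hp⟩
    haveI : IsCyclic (MulAut P) := isCyclic_of_surjective e.symm.toMonoidHom e.symm.surjective
    infer_instance
  refine ⟨p, hp, ?_⟩
  have hdisj : ∀ v : V, v ≠ 1 → stabilizer K v ⊓ P = ⊥ := by
    intro v hv
    rw [eq_bot_iff]
    rintro g ⟨hg, hgP⟩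
    by_contra h
    exact hv (hfree g hgP h v (mem_stabilizer_iff.1 hg))
  obtain ⟨⟨_, x, rfl⟩, hx⟩ := IsCyclic.exists_ofOrder_eq_natCard (α := φ.range)
  rw [← Subgroup.orderOf_coe] at hx
  dsimp only at hx
  rcases eq_or_ne (Nat.card φ.range) 1 with hn1 | hn1
  · refine Or.inl ⟨by rw [hcardK, hn1, mul_one], fun v hv => ?_⟩
    have : P = ⊤ := Subgroup.eq_top_of_card_eq P (by rw [hPc, hcardK, hn1, mul_one])
    simpa [this] using hdisj v hv
  · have hx1 : x ≠ 1 := fun h => hn1 (by rw [← hx, h, map_one, orderOf_one])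
    have hq := horder x hx1
    have hxn : Nat.card φ.range = orderOf x :=
      ((Nat.dvd_prime hq).1 (hx ▸ orderOf_map_dvd φ x)).resolve_left hn1
    refine Or.inr ⟨orderOf x, hq, hxn ▸ hrc, by rw [hcardK, hxn], ?_⟩
    obtain ⟨⟨c, hc⟩, hc1⟩ := Subgroup.ne_bot_iff_exists_ne_one.1 hP1
    have hc1' : c ≠ 1 := fun h => hc1 (Subtype.ext h)
    have hz : zpowers c = P := Subgroup.eq_of_le_of_card_ge (zpowers_le.2 hc)
      (by rw [Nat.card_zpowers, hPexp c hc hc1', hPc])
    haveI : (zpowers c).Normal := hz ▸ hPn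
    obtain ⟨v₀, hv₀, hxv⟩ := frobFixed hV hpodd hq.pos
      (c := c) (x := x) (by rw [← hPexp c hc hc1', pow_orderOf_eq_one])
      (fun d hd => hfree d (hz ▸ hd)) (pow_orderOf_eq_one x) (fun j h0 hj hcomm => by
        have hxP : x ^ j ∈ P := hcent (mem_centralizer_iff.2 fun d hd => by
          obtain ⟨k, rfl⟩ := mem_zpowers_iff.1 (hz.symm ▸ hd : d ∈ zpowers c)
          exact (hcomm.zpow_right k).symm)
        have := orderOf_dvd_of_pow_eq_one (show (φ x) ^ j = 1 by
          rw [← map_pow]; exact (hker.symm ▸ hxP : x ^ j ∈ φ.ker))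
        rw [hx, hxn] at this
        exact absurd (Nat.le_of_dvd h0 this) (not_le.2 hj))
    intro v hv
    rw [hst v v₀ hv hv₀]
    refine Nat.dvd_antisymm ?_ ?_
    · have hinj : Function.Injective (φ.rangeRestrict.comp (stabilizer K v₀).subtype) := by
        refine (injective_iff_map_eq_one _).2 fun g hg => ?_
        have hgP : (g : K) ∈ P := by
          rw [← hker]
          exact congrArg Subtype.val hg
        exact Subtype.ext ((eq_bot_iff.1 (hdisj v₀ hv₀)) ⟨g.2, hgP⟩)
      exact hxn ▸ Subgroup.card_dvd_of_injective _ hinj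
    · exact (Subgroup.orderOf_mk x (mem_stabilizer_iff.2 hxv)) ▸ orderOf_dvd_natCard
        (⟨x, mem_stabilizer_iff.2 hxv⟩ : stabilizer K v₀)

end CfsgLib.FiveOrbits
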