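import Mathlib
import Cfsg.Agent.Solvable.Fitting
import Cfsg.Agent.PLocal.Constraint
import Cfsg.Agent.PrimeOrders.Basic

/-!
# Counting lemmas
-/

set_option autoImplicit false
set_option linter.style.haveILetI false
set_option maxHeartbeats 1000000

namespace CfsgLib.FiveOrbits

open Subgroup

/-- A map all whose fibres are large. -/
theorem mul_le_card {X Y : Type*} [Finite X] [Finite Y] (f : X → Y) {n : ℕ}
    (h : ∀ y, n ≤ Nat.card {x // f x = y}) : Nat.card Y * n ≤ Nat.card X := by
  classical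
  letI := Fintype.ofFinite Y
  rw [← Nat.card_congr (Equiv.sigmaFiberEquiv f), Nat.card_sigma, Nat.card_eq_fintype_card]
  calc Fintype.card Y * n = ∑ _y : Y, n := by simp
    _ ≤ _ := Finset.sum_le_sum fun y _ => h y

/-- A map with bounded fibres. -/
theorem card_le_mul {X Y : Type*} [Finite X] [Finite Y] (f : X → Y) {n : ℕ}
    (h : ∀ y, Nat.card {x // f x = y} ≤ n) : Nat.card X ≤ Nat.card Y * n := by
  classical
  letI := Fintype.ofFinite Y
  rw [← Nat.card_congr (Equiv.sigmaFiberEquiv f), Nat.card_sigma, Nat.card_eq_fintype_card]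
  calc _ ≤ ∑ _y : Y, n := Finset.sum_le_sum fun y _ => h y
    _ = _ := by simp

section simple

variable {G : Type*} [Group G] [Finite G] [IsSimpleGroup G]

/-- Burnside's transfer theorem in a simple group. -/
theorem no_burnside (hna : ¬ IsMulCommutative G) {p : ℕ} [Fact p.Prime] (hpG : p ∣ Nat.card G)
    (P : Sylow p G) (h : normalizer (P : Set G) ≤ centralizer (P : Set G)) : False := by
  have hc := MonoidHom.ker_transferSylow_isComplement' P h
  rcases IsSimpleGroup.eq_bot_or_eq_top_of_normal (MonoidHom.transferSylow P h).ker inferInstance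
    with hk | hk
  · rw [hk, isComplement'_bot_left] at hc
    refine hna ⟨⟨fun a b => h (le_normalizer ?_) a ?_⟩⟩
    · rw [hc]; exact mem_top b
    · show a ∈ (P : Subgroup G)
      rw [hc]; exact mem_top a
  · rw [hk, isComplement'_top_left] at hc
    exact P.ne_bot_of_dvd_card hpG hc

/-- No isolated element in an abelian Sylow subgroup. -/
theorem no_isolated (hna : ¬ IsMulCommutative G) {p : ℕ} [Fact p.Prime] (R : Sylow p G)
    (hR : ∀ a ∈ (R : Subgroup G), ∀ b ∈ (R : Subgroup G), a * b = b * a) {w : G}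
    (hw : w ∈ (R : Subgroup G)) (ho : orderOf w = p)
    (hiso : ∀ g : G, g⁻¹ * w * g ∈ (R : Subgroup G) → g⁻¹ * w * g = w) : False := by
  haveI : IsMulCommutative (R : Subgroup G) :=
    ⟨⟨fun a b => Subtype.ext (hR a a.2 b b.2)⟩⟩
  open scoped IsMulCommutative in
  let t : G →* (R : Subgroup G) := MonoidHom.transfer (MonoidHom.id (R : Subgroup G))
  have key : ∀ (k : ℕ) (g : G), g⁻¹ * w ^ k * g ∈ (R : Subgroup G) →
      g⁻¹ * w ^ k * g = w ^ k := by
    intro k g hg
    have hconj : ∀ j : ℕ, (g⁻¹ * w ^ k * g) ^ j = g⁻¹ * w ^ (k * j) * g := fun j => by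
      rw [pow_mul]
      simpa using conj_pow (i := j) (a := g⁻¹) (b := w ^ k)
    by_cases hpk : p ∣ k
    · rw [orderOf_dvd_iff_pow_eq_one.1 (ho ▸ hpk : orderOf w ∣ k)]
      group
    have hcop : k.Coprime (orderOf w) :=
      by rw [ho]; exact Nat.Coprime.symm ((Fact.out : p.Prime).coprime_iff_not_dvd.2 hpk)
    obtain ⟨j, hj⟩ := exists_pow_eq_self_of_coprime hcop
    rw [← pow_mul] at hj
    have h1 := hiso g (by
      rw [← hj, ← hconj j]
      exact pow_mem hg j)
    calc g⁻¹ * w ^ k * g = (g⁻¹ * w * g) ^ k := by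
          simpa using (conj_pow (i := k) (a := g⁻¹) (b := w)).symm
      _ = w ^ k := by rw [h1]
  have hker : t.ker = ⊤ := by
    rcases IsSimpleGroup.eq_bot_or_eq_top_of_normal t.ker inferInstance with hk | hk
    · refine absurd ⟨⟨fun a b => ?_⟩⟩ hna
      exact (MonoidHom.ker_eq_bot_iff t).1 hk (by
        rw [map_mul, map_mul]
        exact Subtype.ext (hR _ (t a).2 _ (t b).2))
    · exact hk
  open scoped IsMulCommutative in
  have h := MonoidHom.transfer_eq_pow (MonoidHom.id (R : Subgroup G)) w key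
  have h1 : t w = 1 := MonoidHom.mem_ker.1 (hker ▸ mem_top w)
  have h2 : w ^ (R : Subgroup G).index = 1 := by
    have := congrArg Subtype.val (h.symm.trans h1)
    simpa using this
  have h3 := orderOf_dvd_of_pow_eq_one h2
  rw [ho] at h3
  exact R.not_dvd_index h3

end simple

/-- The number of odd elements of an extension of an involutory group. -/
theorem odd_le {Q K : Type*} [Group Q] [Finite Q] [Group K] [Finite K] {r : ℕ} [Fact r.Prime]
    (ψ : Q →* K) (hψ : Function.Surjective ψ) (hexp : ∀ a ∈ ψ.ker, a * a = 1)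
    (hr : r ≠ 2) (hK : Nat.card K = 1 ∨ Nat.card K = r) {D : ℕ}
    (hfix : ∀ u : Q, ψ u ≠ 1 → D ≤ Nat.card ↥(ψ.ker ⊓ centralizer {u})) :
    Nat.card {u : Q // Odd (orderOf u)} * D ≤ D + (Nat.card K - 1) * Nat.card ψ.ker := by
  classical
  letI := Fintype.ofFinite Q
  letI := Fintype.ofFinite K
  have hone : ∀ u : Q, Odd (orderOf u) → ψ u = 1 → u = 1 := by
    intro u hu h1
    have hd := orderOf_dvd_of_pow_eq_one ((pow_two u).trans (hexp u h1))
    refine orderOf_eq_one_iff.1 (((Nat.dvd_prime Nat.prime_two).1 hd).resolve_right ?_)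
    intro h
    rw [h] at hu
    exact absurd hu (by decide)
  let F : K → ℕ := fun k => Nat.card {u : Q // Odd (orderOf u) ∧ ψ u = k}
  have hsum : Nat.card {u : Q // Odd (orderOf u)} = ∑ k : K, F k := by
    rw [← Nat.card_congr (Equiv.sigmaFiberEquiv fun u : {u : Q // Odd (orderOf u)} => ψ u),
      Nat.card_sigma]
    exact Finset.sum_congr rfl fun k _ =>
      Nat.card_congr (Equiv.subtypeSubtypeEquivSubtypeInter _ (fun u => ψ u = k))
  have h1 : F 1 ≤ 1 := by
    refine Finite.card_le_one_iff_subsingleton.2 ⟨fun a b => Subtype.ext ?_⟩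
    rw [hone a.1 a.2.1 a.2.2, hone b.1 b.2.1 b.2.2]
  have h2 : ∀ k : K, k ≠ 1 → F k * D ≤ Nat.card ψ.ker := by
    intro k hk
    rcases isEmpty_or_nonempty {u : Q // Odd (orderOf u) ∧ ψ u = k} with he | ⟨u, hu, huk⟩
    · simp [F]
    refine (Nat.mul_le_mul_left _ (hfix u (huk ▸ hk))).trans ?_
    have hKr : Nat.card K = r := hK.resolve_left fun h => hk (by
      have := (Nat.card_eq_one_iff_unique.1 h).1
      exact Subsingleton.elim _ _)
    have hord : ∀ x : Q, Odd (orderOf x) → ψ x ≠ 1 → orderOf x = r := by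
      intro x hx hx1
      have hxr : x ^ r ∈ ψ.ker := by
        rw [MonoidHom.mem_ker, map_pow, ← hKr, pow_card_eq_one']
      have h3 := hone (x ^ r) (Odd.of_dvd_nat hx (orderOf_pow_dvd r)) hxr
      exact orderOf_eq_prime h3 fun h => hx1 (by rw [h, map_one])
    have hsub : ∀ u' : {v : Q // Odd (orderOf v) ∧ ψ v = k},
        ∃ b ∈ ψ.ker, b * u * b⁻¹ = (u' : Q) := by
      rintro ⟨v, hv, hvk⟩
      have huo := hord u hu (huk ▸ hk)
      have hvo := hord v hv (hvk ▸ hk)
      have hcardQ : Nat.card Q = Nat.card ψ.ker * r := by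
        rw [← ψ.ker.card_mul_index, index_ker, MonoidHom.range_eq_top.2 hψ, card_top, hKr]
      have hker2 : ¬ r ∣ Nat.card ψ.ker := by
        intro hd
        obtain ⟨a, ha⟩ := exists_prime_orderOf_dvd_card' r hd
        have := orderOf_dvd_of_pow_eq_one ((pow_two a).trans (Subtype.ext (hexp a a.2)))
        rw [ha] at this
        exact hr ((Nat.prime_dvd_prime_iff_eq Fact.out Nat.prime_two).1 this)
      have hsyl : ∀ x : Q, orderOf x = r → ¬ r ∣ (zpowers x).index := by
        intro x hx hd
        have h4 := (zpowers x).card_mul_index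
        rw [Nat.card_zpowers, hx, hcardQ, mul_comm] at h4
        rw [Nat.eq_of_mul_eq_mul_right (Fact.out : r.Prime).pos h4] at hd
        exact hker2 hd
      let Pu := (IsPGroup.of_card (n := 1) (by rw [Nat.card_zpowers, huo, pow_one]) :
        IsPGroup r (zpowers u)).toSylow (hsyl u huo)
      let Pv := (IsPGroup.of_card (n := 1) (by rw [Nat.card_zpowers, hvo, pow_one]) :
        IsPGroup r (zpowers v)).toSylow (hsyl v hvo)
      obtain ⟨g, hg⟩ := MulAction.exists_smul_eq Q Pu Pv
      have hmem : g⁻¹ * v * g ∈ zpowers u := by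
        have hv' : v ∈ ((g • Pu : Sylow r Q) : Subgroup Q) := by rw [hg]; exact mem_zpowers v
        rw [Sylow.coe_subgroup_smul] at hv'
        obtain ⟨y, hy, hyv⟩ := (Subgroup.mem_smul_pointwise_iff_exists _ _ _).1 hv'
        have : g * y * g⁻¹ = v := by simpa using hyv
        rw [← this]
        simpa [mul_assoc] using (show y ∈ zpowers u from hy)
      obtain ⟨j, hj⟩ := mem_zpowers_iff.1 hmem
      obtain ⟨i, hi⟩ : ∃ i : ℤ, ψ g = k ^ i := by
        have := zpowers_eq_top_of_prime_card hKr hk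
        exact (mem_zpowers_iff.1 (this ▸ mem_top (ψ g))).imp fun i h => h.symm
      refine ⟨g * u ^ (-i), ?_, ?_⟩
      · rw [MonoidHom.mem_ker, map_mul, map_zpow, huk, hi, ← zpow_add, add_neg_cancel, zpow_zero]
      · have hpsi : k ^ j = k := by
          have := congrArg ψ hj
          rw [map_zpow, huk, map_mul, map_mul, map_inv, hvk, hi] at this
          rw [this]
          group
        have hju : u ^ j = u := by
          have hko : orderOf k = r := by
            have := (zpowers_eq_top_of_prime_card hKr hk)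
            rw [← Nat.card_zpowers, this, card_top, hKr]
          have : (r : ℤ) ∣ j - 1 := by
            rw [← hko, orderOf_dvd_iff_zpow_eq_one, zpow_sub, zpow_one, hpsi, mul_inv_cancel]
          rw [← huo, orderOf_dvd_iff_zpow_eq_one, zpow_sub, zpow_one, mul_inv_eq_one] at this
          exact this
        calc g * u ^ (-i) * u * (g * u ^ (-i))⁻¹ = g * u * g⁻¹ := by group
          _ = g * (g⁻¹ * v * g) * g⁻¹ := by rw [← hj, hju]
          _ = v := by group
    choose b hb hbu using hsub
    rw [← Nat.card_prod]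
    refine Nat.card_le_card_of_injective
      (fun x => (⟨b x.1 * x.2, mul_mem (hb x.1) x.2.2.1⟩ : ψ.ker)) ?_
    rintro ⟨u₁, c₁, hc₁⟩ ⟨u₂, c₂, hc₂⟩ h
    have h' : b u₁ * c₁ = b u₂ * c₂ := congrArg Subtype.val h
    have e : ∀ (x : {v : Q // Odd (orderOf v) ∧ ψ v = k}) (c : Q),
        c ∈ centralizer {u} → (b x * c) * u * (b x * c)⁻¹ = (x : Q) := by
      intro x c hc
      have hcu : c * u = u * c := mem_centralizer_singleton_iff.1 hc
      rw [mul_assoc (b x) c u, hcu, ← hbu x]
      group
    have hu12 : u₁ = u₂ := Subtype.ext (by rw [← e u₁ c₁ hc₁.2, h', e u₂ c₂ hc₂.2])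
    subst hu12
    exact Prod.ext rfl (Subtype.ext (mul_left_cancel h'))
  rw [hsum, ← Finset.add_sum_erase _ F (Finset.mem_univ (1 : K)), add_mul, Finset.sum_mul]
  refine Nat.add_le_add ((Nat.mul_le_mul_right D h1).trans_eq (one_mul D)) ?_
  refine (Finset.sum_le_sum fun k hk => h2 k (Finset.ne_of_mem_erase hk)).trans_eq ?_
  rw [Finset.sum_const, smul_eq_mul, Finset.card_erase_of_mem (Finset.mem_univ _),
    Finset.card_univ, ← Nat.card_eq_fintype_card]

/-- A group of order divisible by two primes only, with abelian Sylow two-subgroup and no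
normal subgroup of odd prime power order. -/
theorem sylow_normal_self_centralizing {Q : Type*} [Group Q] [Finite Q] {r : ℕ} [Fact r.Prime]
    (hQ : ∀ p : ℕ, p.Prime → p ∣ Nat.card Q → p = 2 ∨ p = r) (hcore : Cfsg.pCore r Q = ⊥)
    (S : Sylow 2 Q) (hab : ∀ a ∈ (S : Subgroup Q), ∀ b ∈ (S : Subgroup Q), a * b = b * a) :
    (S : Subgroup Q).Normal ∧ centralizer ((S : Subgroup Q) : Set Q) ≤ S := by
  haveI : Group.IsSolvable Q := by
    refine CfsgLib.PrimeOrders.isSolvable_of_primeFactors_card_le_two ?_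
    refine (Finset.card_le_card (t := {2, r}) fun p hp => ?_).trans Finset.card_le_two
    simpa using hQ p (Nat.prime_of_mem_primeFactors hp) (Nat.dvd_of_mem_primeFactors hp)
  have hF : Cfsg.fittingSubgroup Q ≤ Cfsg.pCore 2 Q := by
    rw [Solvable.fittingSubgroup_eq_iSup, Solvable.iSup_pCore_eq]
    refine iSup_le fun p => ?_
    rcases hQ p (Nat.prime_of_mem_primeFactors p.2) (Nat.dvd_of_mem_primeFactors p.2) with h | h
    · rw [h]
    · rw [h, hcore]; exact bot_le
  have hFS : Cfsg.pCore 2 Q ≤ (S : Subgroup Q) := Solvable.pCore_le_sylow S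
  have hSC : (S : Subgroup Q) ≤ centralizer (Cfsg.fittingSubgroup Q : Set Q) := fun a ha =>
    mem_centralizer_iff.2 fun b hb => hab b (hFS (hF hb)) a ha
  have hSF : (S : Subgroup Q) = Cfsg.fittingSubgroup Q :=
    le_antisymm (hSC.trans Solvable.centralizer_fittingSubgroup_le) (hF.trans hFS)
  rw [hSF]
  exact ⟨Solvable.fittingSubgroup_normal, Solvable.centralizer_fittingSubgroup_le⟩

end CfsgLib.FiveOrbits
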