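import Mathlib
import Cfsg.Agent.FiveOrbits.Counts

/-!
# Groups with element orders 1, 2, r, s, 2r, one automorphism orbit for each order
-/

set_option autoImplicit false
set_option linter.style.haveILetI false

namespace CfsgLib.FiveOrbits

open Subgroup

/-- The element orders are `1, 2, r, s, 2r`, each forming one automorphism orbit. -/
structure Spec (G : Type*) [Group G] (r s : ℕ) : Prop where
  hr : r.Prime
  hs : s.Prime
  hr2 : r ≠ 2
  hs2 : s ≠ 2
  hrs : r ≠ s
  ord : ∀ g : G, g ≠ 1 → orderOf g = 2 ∨ orderOf g = r ∨ orderOf g = s ∨ orderOf g = 2 * r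
  two_r : ∃ g : G, orderOf g = 2 * r
  ex_s : ∃ g : G, orderOf g = s
  aut : ∀ a b : G, orderOf a = orderOf b → ∃ φ : MulAut G, φ a = b

variable {G : Type*} [Group G] {r s : ℕ}

/-- The order of the centraliser of an element. -/
noncomputable abbrev cc (x : G) : ℕ := Nat.card (centralizer ({x} : Set G))

theorem mem_cent {x y : G} : y ∈ centralizer ({x} : Set G) ↔ y * x = x * y :=
  mem_centralizer_singleton_iff

theorem map_centralizer (φ : MulAut G) (x : G) :
    (centralizer ({x} : Set G)).map φ.toMonoidHom = centralizer ({φ x} : Set G) := by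
  ext y
  constructor
  · rintro ⟨a, ha, rfl⟩
    have ha' := mem_cent.1 ha
    exact mem_cent.2 (by simpa [map_mul] using congrArg φ ha')
  · intro hy
    refine ⟨φ.symm y, mem_cent.2 (φ.injective ?_), by simp⟩
    simpa [map_mul] using mem_cent.1 hy

theorem Spec.cc_eq (h : Spec G r s) {a b : G} (hab : orderOf a = orderOf b) : cc a = cc b := by
  obtain ⟨φ, rfl⟩ := h.aut a b hab
  show Nat.card _ = Nat.card (centralizer ({φ a} : Set G))
  rw [← map_centralizer φ a, Subgroup.card_map_of_injective φ.injective]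

theorem Spec.not_dvd_mul (h : Spec G r s) {g : G} {p : ℕ} (hp : p.Prime) (hps : p ≠ s) :
    ¬ p * s ∣ orderOf g := by
  intro hd
  have h1 : g ≠ 1 := by
    intro e
    rw [e, orderOf_one, Nat.dvd_one] at hd
    exact hp.one_lt.ne' (Nat.eq_one_of_mul_eq_one_right hd)
  have hd2 : s ∣ orderOf g := (dvd_mul_left s p).trans hd
  have hd1 : p ∣ orderOf g := (dvd_mul_right p s).trans hd
  rcases h.ord g h1 with e | e | e | e <;> rw [e] at hd1 hd2
  · exact h.hs2 ((Nat.prime_dvd_prime_iff_eq h.hs Nat.prime_two).1 hd2)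
  · exact h.hrs ((Nat.prime_dvd_prime_iff_eq h.hs h.hr).1 hd2).symm
  · exact hps ((Nat.prime_dvd_prime_iff_eq hp h.hs).1 hd1)
  · rcases h.hs.dvd_mul.1 hd2 with e' | e'
    · exact h.hs2 ((Nat.prime_dvd_prime_iff_eq h.hs Nat.prime_two).1 e')
    · exact h.hrs ((Nat.prime_dvd_prime_iff_eq h.hs h.hr).1 e').symm

/-- Only elements of order `s` commute with elements of order `s`. -/
theorem Spec.eq_s_of_commute (h : Spec G r s) {y u : G} {p : ℕ} (hp : p.Prime)
    (hy : orderOf y = s) (hu : orderOf u = p) (hc : Commute u y) : p = s := by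
  by_contra hne
  refine h.not_dvd_mul (g := u * y) hp hne (dvd_of_eq ?_)
  rw [hc.orderOf_mul_eq_mul_orderOf_of_coprime, hu, hy]
  rw [hu, hy]
  exact (Nat.coprime_primes hp h.hs).2 hne

theorem Spec.cent_two_primes [Finite G] (h : Spec G r s) {z : G} (hz : orderOf z = 2) {p : ℕ}
    (hp : p.Prime) (hd : p ∣ cc z) : p = 2 ∨ p = r := by
  haveI := Fact.mk hp
  obtain ⟨⟨u, hu⟩, huo⟩ := exists_prime_orderOf_dvd_card' p hd
  rw [Subgroup.orderOf_mk] at huo
  by_contra! hne
  have hc : Commute u z := mem_cent.1 hu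
  have hmul : orderOf (u * z) = p * 2 := by
    rw [hc.orderOf_mul_eq_mul_orderOf_of_coprime, huo, hz]
    rw [huo, hz]
    exact (Nat.coprime_primes hp Nat.prime_two).2 hne.1
  have h1 : u * z ≠ 1 := fun e => by
    rw [e, orderOf_one] at hmul
    omega
  rcases h.ord _ h1 with e | e | e | e <;> rw [hmul] at e
  · exact hne.1 (by
      have := hp.two_le
      omega)
  · exact h.hr2 ((Nat.prime_dvd_prime_iff_eq Nat.prime_two h.hr).1 ⟨p, by omega⟩).symm
  · exact h.hs2 ((Nat.prime_dvd_prime_iff_eq Nat.prime_two h.hs).1 ⟨p, by omega⟩).symm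
  · exact hne.2 (by omega)

theorem Spec.orderOf_of_dvd (h : Spec G r s) {g : G} (hd : s ∣ orderOf g) : orderOf g = s := by
  have h1 : g ≠ 1 := fun e => by
    rw [e, orderOf_one, Nat.dvd_one] at hd
    exact h.hs.one_lt.ne' hd
  rcases h.ord g h1 with e | e | e | e
  · rw [e] at hd
    exact absurd ((Nat.prime_dvd_prime_iff_eq h.hs Nat.prime_two).1 hd) h.hs2
  · rw [e] at hd
    exact absurd ((Nat.prime_dvd_prime_iff_eq h.hs h.hr).1 hd).symm h.hrs
  · exact e
  · rw [e] at hd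
    rcases h.hs.dvd_mul.1 hd with e' | e'
    · exact absurd ((Nat.prime_dvd_prime_iff_eq h.hs Nat.prime_two).1 e') h.hs2
    · exact absurd ((Nat.prime_dvd_prime_iff_eq h.hs h.hr).1 e').symm h.hrs

theorem Spec.cent_s_isPGroup [Finite G] (h : Spec G r s) {y : G} (hy : orderOf y = s) :
    IsPGroup s (centralizer ({y} : Set G)) := by
  haveI := Fact.mk h.hs
  refine IsPGroup.iff_orderOf.2 fun u => ?_
  rw [← Subgroup.orderOf_coe]
  rcases eq_or_ne (u : G) 1 with h1 | h1
  · exact ⟨0, by rw [h1, orderOf_one, pow_zero]⟩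
  refine ⟨1, ?_⟩
  rw [pow_one]
  obtain ⟨p, hp, hd⟩ := Nat.exists_prime_and_dvd (mt orderOf_eq_one_iff.1 h1)
  have hps := h.eq_s_of_commute hp hy (orderOf_pow_orderOf_div (orderOf_pos (u : G)).ne' hd)
    (Commute.pow_left (show Commute (u : G) y from mem_cent.1 u.2) _)
  exact h.orderOf_of_dvd (hps ▸ hd)

/-- Elements of a Sylow subgroup for an odd prime have that prime order. -/
theorem Spec.orderOf_of_pGroup (h : Spec G r s) {p : ℕ} [Fact p.Prime] {P : Subgroup G}
    (hP : IsPGroup p P) {g : G} (hg : g ∈ P) (h1 : g ≠ 1) : orderOf g = p := by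
  obtain ⟨k, hk⟩ := IsPGroup.iff_orderOf.1 hP ⟨g, hg⟩
  rw [Subgroup.orderOf_mk] at hk
  rcases h.ord g h1 with e | e | e | e <;> rw [e] at hk ⊢
  · exact Nat.prime_eq_prime_of_dvd_pow Nat.prime_two Fact.out (dvd_of_eq hk)
  · exact Nat.prime_eq_prime_of_dvd_pow h.hr Fact.out (dvd_of_eq hk)
  · exact Nat.prime_eq_prime_of_dvd_pow h.hs Fact.out (dvd_of_eq hk)
  · have e1 := Nat.prime_eq_prime_of_dvd_pow Nat.prime_two Fact.out ⟨r, hk.symm⟩
    have e2 := Nat.prime_eq_prime_of_dvd_pow h.hr Fact.out ⟨2, by rw [← hk, mul_comm]⟩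
    exact absurd (e2.trans e1.symm) h.hr2

theorem Spec.dvd_card [Finite G] (h : Spec G r s) :
    2 ∣ Nat.card G ∧ r ∣ Nat.card G ∧ s ∣ Nat.card G := by
  obtain ⟨a, ha⟩ := h.two_r
  obtain ⟨b, hb⟩ := h.ex_s
  exact ⟨(dvd_mul_right 2 r).trans (ha ▸ orderOf_dvd_natCard a),
    (dvd_mul_left r 2).trans (ha ▸ orderOf_dvd_natCard a), hb ▸ orderOf_dvd_natCard b⟩

theorem Spec.thirty_le [Finite G] (h : Spec G r s) : 30 ≤ Nat.card G := by
  obtain ⟨h2, hr, hs⟩ := h.dvd_card
  have hd : 2 * r * s ∣ Nat.card G :=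
    Nat.Coprime.mul_dvd_of_dvd_of_dvd (Nat.Coprime.mul_left
      ((Nat.coprime_primes Nat.prime_two h.hs).2 h.hs2.symm)
      ((Nat.coprime_primes h.hr h.hs).2 h.hrs))
      (Nat.Coprime.mul_dvd_of_dvd_of_dvd
        ((Nat.coprime_primes Nat.prime_two h.hr).2 h.hr2.symm) h2 hr) hs
  refine le_trans ?_ (Nat.le_of_dvd Nat.card_pos hd)
  have hr3 : 3 ≤ r := (Nat.lt_of_le_of_ne h.hr.two_le h.hr2.symm)
  have hs3 : 3 ≤ s := (Nat.lt_of_le_of_ne h.hs.two_le h.hs2.symm)
  rcases Nat.lt_or_ge r 5 with h5 | h5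
  · have : 5 ≤ s := by
      rcases (show r = 3 ∨ r = 4 by omega) with e | e
      · by_contra!
        rcases (show s = 3 ∨ s = 4 by omega) with e' | e'
        · exact h.hrs (e.trans e'.symm)
        · exact absurd (e' ▸ h.hs) (by norm_num)
      · exact absurd (e ▸ h.hr) (by norm_num)
    nlinarith
  · nlinarith

end CfsgLib.FiveOrbits
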