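import Mathlib
import Cfsg.Agent.FiveOrbits.Spec
import Cfsg.Agent.FiveOrbits.HalfTrans

/-!
# The automiser of a Sylow two-subgroup
-/

set_option autoImplicit false
set_option linter.style.haveILetI false
set_option maxHeartbeats 1000000

namespace CfsgLib.FiveOrbits

open Subgroup MulAction
open scoped IsMulCommutative

variable {G : Type*} [Group G] [Finite G] {r s : ℕ}

theorem Spec.two_exp (h : Spec G r s) (S : Sylow 2 G) :
    ∀ a ∈ (S : Subgroup G), a * a = 1 := by
  intro a ha
  rcases eq_or_ne a 1 with rfl | h1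
  · exact one_mul 1
  · rw [← pow_two, ← h.orderOf_of_pGroup S.2 ha h1, pow_orderOf_eq_one]

theorem Spec.two_comm (h : Spec G r s) (S : Sylow 2 G) :
    ∀ a ∈ (S : Subgroup G), ∀ b ∈ (S : Subgroup G), a * b = b * a := by
  intro a ha b hb
  have e : ∀ x ∈ (S : Subgroup G), x⁻¹ = x := fun x hx => inv_eq_of_mul_eq_one_left (h.two_exp S x hx)
  conv_lhs => rw [← e (a * b) (mul_mem ha hb), mul_inv_rev, e a ha, e b hb]

theorem Spec.four_le_sylow [IsSimpleGroup G] (hna : ¬ IsMulCommutative G) (h : Spec G r s)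
    (S : Sylow 2 G) : 4 ≤ Nat.card (S : Subgroup G) := by
  classical
  by_contra hlt
  have h2 := S.dvd_card_of_dvd_card h.dvd_card.1
  obtain ⟨n, hn⟩ := IsPGroup.iff_card.1 S.2
  have hn1 : n = 1 := by
    rcases (show n = 0 ∨ n = 1 ∨ 2 ≤ n by omega) with rfl | rfl | h3
    · rw [hn] at h2
      norm_num at h2
    · rfl
    · exfalso
      apply hlt
      rw [hn]
      exact le_trans (by norm_num) (Nat.pow_le_pow_right two_pos h3)
  rw [hn1, pow_one] at hn
  refine no_burnside hna h.dvd_card.1 S ?_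
  intro a ha
  rw [mem_centralizer_iff]
  intro b hb
  rcases eq_or_ne b 1 with rfl | hb1
  · simp
  have hb' : a * b * a⁻¹ ∈ (S : Subgroup G) := (mem_normalizer_iff.1 ha b).1 hb
  have heq : a * b * a⁻¹ = b := by
    by_contra hne
    haveI := Fintype.ofFinite (S : Subgroup G)
    rw [Nat.card_eq_fintype_card] at hn
    have h3 : ({1, ⟨b, hb⟩, ⟨a * b * a⁻¹, hb'⟩} : Finset (S : Subgroup G)).card = 3 := by
      rw [Finset.card_insert_of_notMem, Finset.card_pair]
      · exact fun e => hne (congrArg Subtype.val e).symm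
      · simp only [Finset.mem_insert, Finset.mem_singleton, not_or]
        refine ⟨fun e => hb1 (congrArg Subtype.val e).symm, fun e => hb1 ?_⟩
        have e' : (1 : G) = a * b * a⁻¹ := congrArg Subtype.val e
        calc b = a⁻¹ * (a * b * a⁻¹) * a := by group
          _ = 1 := by rw [← e']; group
    have := Finset.card_le_univ ({1, ⟨b, hb⟩, ⟨a * b * a⁻¹, hb'⟩} : Finset (S : Subgroup G))
    omega
  exact (mul_inv_eq_iff_eq_mul.1 heq).symm

/-- The group induced on `S` by its normaliser. -/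
abbrev autK (S : Sylow 2 G) : Subgroup (MulAut (S : Subgroup G)) :=
  (S : Subgroup G).normalizerMonoidHom.range

theorem rho_apply (S : Sylow 2 G) (n : normalizer ((S : Subgroup G) : Set G))
    (v : (S : Subgroup G)) :
    (((S : Subgroup G).normalizerMonoidHom n v : (S : Subgroup G)) : G) =
      (n : G) * v * (n : G)⁻¹ := rfl

theorem Spec.rho_ker_eq_one (h : Spec G r s) (S : Sylow 2 G)
    {n : normalizer ((S : Subgroup G) : Set G)} (hn : (n : G) ∈ (S : Subgroup G)) :
    (S : Subgroup G).normalizerMonoidHom n = 1 := by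
  refine MulEquiv.ext fun v => Subtype.ext ?_
  show (n : G) * v * (n : G)⁻¹ = v
  rw [h.two_comm S _ hn _ v.2, mul_inv_cancel_right]

theorem Spec.odd_autK (h : Spec G r s) (S : Sylow 2 G) : Odd (Nat.card (autK S)) := by
  rw [← Nat.not_even_iff_odd, even_iff_two_dvd, ← Subgroup.index_ker]
  intro hd
  have hle : (S : Subgroup G).subgroupOf (normalizer ((S : Subgroup G) : Set G)) ≤
      (S : Subgroup G).normalizerMonoidHom.ker := fun n hn =>
    MonoidHom.mem_ker.2 (h.rho_ker_eq_one S hn)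
  exact S.not_dvd_index ((hd.trans (Subgroup.index_dvd_of_le hle)).trans
    (relIndex_dvd_index_of_le le_normalizer))

theorem Spec.orders_autK (h : Spec G r s) (S : Sylow 2 G) (k : autK S) (hk : k ≠ 1) :
    orderOf k = r ∨ orderOf k = s := by
  obtain ⟨_, n, rfl⟩ := k
  have hd : orderOf ((S : Subgroup G).normalizerMonoidHom n) ∣ orderOf (n : G) := by
    rw [Subgroup.orderOf_coe]
    exact orderOf_map_dvd _ _
  have hodd := Odd.of_dvd_nat (h.odd_autK S) (orderOf_dvd_natCard
    (⟨_, n, rfl⟩ : autK S))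
  rw [← Subgroup.orderOf_coe] at hodd ⊢
  dsimp only at hodd ⊢
  set o := orderOf ((S : Subgroup G).normalizerMonoidHom n) with ho
  have ho1 : o ≠ 1 := fun e => hk (Subtype.ext (orderOf_eq_one_iff.1 e))
  have hn1 : (n : G) ≠ 1 := fun e => by
    rw [e, orderOf_one, Nat.dvd_one] at hd
    exact ho1 hd
  rcases h.ord _ hn1 with e | e | e | e <;> rw [e] at hd
  · rcases (Nat.dvd_prime Nat.prime_two).1 hd with e' | e'
    · exact absurd e' ho1
    · exact absurd (e' ▸ hodd) (by decide)
  · exact Or.inl (((Nat.dvd_prime h.hr).1 hd).resolve_left ho1)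
  · exact Or.inr (((Nat.dvd_prime h.hs).1 hd).resolve_left ho1)
  · exact Or.inl (((Nat.dvd_prime h.hr).1 ((Nat.Coprime.dvd_of_dvd_mul_left
      ((Nat.prime_two.coprime_iff_not_dvd.2 fun h2 => Nat.not_even_iff_odd.2 hodd
        (even_iff_two_dvd.2 h2)).symm) hd))).resolve_left ho1)

theorem Spec.solvable_autK (h : Spec G r s) (S : Sylow 2 G) : Group.IsSolvable (autK S) := by
  refine CfsgLib.PrimeOrders.isSolvable_of_primeFactors_card_le_two ?_
  refine (Finset.card_le_card (t := {r, s}) fun p hp => ?_).trans Finset.card_le_two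
  haveI := Fact.mk (Nat.prime_of_mem_primeFactors hp)
  obtain ⟨k, hk⟩ := exists_prime_orderOf_dvd_card' p (Nat.dvd_of_mem_primeFactors hp)
  have hk1 : k ≠ 1 := fun e => (Fact.out : p.Prime).one_lt.ne' (by rw [← hk, e, orderOf_one])
  simpa [← hk] using h.orders_autK S k hk1

theorem Spec.nontrivial_autK [IsSimpleGroup G] (hna : ¬ IsMulCommutative G) (h : Spec G r s)
    (S : Sylow 2 G) : Nontrivial (autK S) := by
  by_contra hnt
  rw [not_nontrivial_iff_subsingleton] at hnt
  refine no_burnside hna h.dvd_card.1 S fun a ha => ?_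
  have h1 : (S : Subgroup G).normalizerMonoidHom ⟨a, ha⟩ = 1 :=
    congrArg Subtype.val (Subsingleton.elim
      (⟨_, ⟨a, ha⟩, rfl⟩ : autK S) (1 : autK S))
  rw [← MonoidHom.mem_ker, normalizerMonoidHom_ker] at h1
  exact h1

/-- Automorphisms normalising `S` are transitive on its involutions. -/
theorem Spec.exists_aut_fix (h : Spec G r s) (S : Sylow 2 G) {v w : G}
    (hv : v ∈ (S : Subgroup G)) (hv1 : v ≠ 1) (hw : w ∈ (S : Subgroup G)) (hw1 : w ≠ 1) :
    ∃ α : MulAut G, α v = w ∧ (S : Subgroup G).map α.toMonoidHom = (S : Subgroup G) := by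
  obtain ⟨φ, hφ⟩ := h.aut v w
    ((h.orderOf_of_pGroup S.2 hv hv1).trans (h.orderOf_of_pGroup S.2 hw hw1).symm)
  have hS : (S : Subgroup G) ≤ centralizer ({w} : Set G) := fun b hb =>
    mem_cent.2 (h.two_comm S b hb w hw)
  have hφS : (S : Subgroup G).map φ.toMonoidHom ≤ centralizer ({w} : Set G) := by
    rintro _ ⟨b, hb, rfl⟩
    refine mem_cent.2 ?_
    rw [← hφ]
    show φ b * φ v = φ v * φ b
    rw [← map_mul, ← map_mul, h.two_comm S b hb v hv]
  let S₁ : Sylow 2 (centralizer ({w} : Set G)) := S.subtype hS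
  have hcard : Nat.card ((S : Subgroup G).map φ.toMonoidHom) = Nat.card (S : Subgroup G) :=
    Subgroup.card_map_of_injective φ.injective
  let S₂ : Sylow 2 (centralizer ({w} : Set G)) :=
    Sylow.ofCard (((S : Subgroup G).map φ.toMonoidHom).subgroupOf (centralizer {w})) (by
      rw [Nat.card_congr (subgroupOfEquivOfLe hφS).toEquiv, hcard, ← S₁.card_eq_multiplicity]
      exact (Nat.card_congr (subgroupOfEquivOfLe hS).toEquiv).symm)
  obtain ⟨c, hc⟩ := MulAction.exists_smul_eq (centralizer ({w} : Set G)) S₂ S₁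
  refine ⟨φ.trans (MulAut.conj (c : G)), ?_, ?_⟩
  · show (c : G) * φ v * (c : G)⁻¹ = w
    rw [hφ, mem_cent.1 c.2, mul_inv_cancel_right]
  · refine Subgroup.eq_of_le_of_card_ge ?_ (le_of_eq
      (Subgroup.card_map_of_injective (φ.trans (MulAut.conj (c : G))).injective).symm)
    rintro _ ⟨b, hb, rfl⟩
    have hmem : c * ⟨φ b, hφS (mem_map_of_mem _ hb)⟩ * c⁻¹ ∈
        ((c • S₂ : Sylow 2 (centralizer ({w} : Set G))) : Subgroup _) := by
      rw [Sylow.coe_subgroup_smul]
      exact ⟨_, (show (⟨φ b, hφS (mem_map_of_mem _ hb)⟩ : centralizer ({w} : Set G)) ∈ (S₂ : Subgroup _)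
        from mem_map_of_mem φ.toMonoidHom hb), rfl⟩
    rw [hc] at hmem
    exact hmem

/-- Characteristic subgroups of `autK S` are half transitive. -/
theorem Spec.card_stab_le (h : Spec G r s) (S : Sylow 2 G) [IsMulCommutative (S : Subgroup G)]
    (P : Subgroup (autK S)) (hP : P.Characteristic) {v w : (S : Subgroup G)} (hv : v ≠ 1)
    (hw : w ≠ 1) : Nat.card (stabilizer P v) ≤ Nat.card (stabilizer P w) := by
  obtain ⟨α, hα, hαS⟩ := h.exists_aut_fix S v.2 (fun e => hv (Subtype.ext e)) w.2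
    (fun e => hw (Subtype.ext e))
  let αS : MulAut (S : Subgroup G) := (α.subgroupMap (S : Subgroup G)).trans
    (MulEquiv.subgroupCongr hαS)
  have hαS' : ∀ b : (S : Subgroup G), ((αS b : (S : Subgroup G)) : G) = α b := fun _ => rfl
  have hvw : αS v = w := Subtype.ext (by rw [hαS', hα])
  have hN : ∀ n ∈ normalizer ((S : Subgroup G) : Set G),
      α n ∈ normalizer ((S : Subgroup G) : Set G) := by
    intro n hn
    rw [mem_normalizer_iff_map_conj_eq] at hn ⊢
    conv_lhs => rw [← hαS, map_map]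
    conv_rhs => rw [← hαS, ← hn, map_map]
    congr 1
    ext x
    simp
  have hKmap : (autK S).map (MulAut.conj αS).toMonoidHom = autK S := by
    refine Subgroup.eq_of_le_of_card_ge ?_ (le_of_eq
      (Subgroup.card_map_of_injective (MulAut.conj αS).injective).symm)
    rintro _ ⟨_, ⟨n, rfl⟩, rfl⟩
    refine ⟨⟨α n, hN n n.2⟩, MulEquiv.ext fun b => Subtype.ext ?_⟩
    show α n * b * (α n)⁻¹ = α ((n : G) * (αS⁻¹ b : (S : Subgroup G)) * (n : G)⁻¹)
    rw [map_mul, map_mul, map_inv, ← hαS' (αS⁻¹ b)]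
    congr 2
    exact congrArg Subtype.val (αS.apply_symm_apply b).symm
  let e : autK S ≃* autK S := ((MulAut.conj αS).subgroupMap (autK S)).trans
    (MulEquiv.subgroupCongr hKmap)
  have he : ∀ k : autK S, ((e k : autK S) : MulAut (S : Subgroup G)) = αS * k * αS⁻¹ :=
    fun _ => rfl
  have heP : ∀ k ∈ P, e k ∈ P := fun k hk => by
    have := (Subgroup.characteristic_iff_map_le.1 hP) e (mem_map_of_mem e.toMonoidHom hk)
    exact this
  refine Nat.card_le_card_of_injective (fun k => ⟨⟨e k.1.1, heP _ k.1.2⟩, ?_⟩) ?_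
  · rw [mem_stabilizer_iff]
    show ((e k.1.1 : autK S) : MulAut (S : Subgroup G)) w = w
    rw [he]
    have hk : ((k.1.1 : autK S) : MulAut (S : Subgroup G)) v = v := mem_stabilizer_iff.1 k.2
    show αS (((k.1.1 : autK S) : MulAut (S : Subgroup G)) (αS⁻¹ w)) = w
    rw [← hvw, show αS⁻¹ (αS v) = v from αS.symm_apply_apply v, hk]
  · intro a b hab
    exact Subtype.ext (Subtype.ext (e.injective (congrArg (fun x => x.1.1) hab)))

theorem Spec.stab_eq (h : Spec G r s) (S : Sylow 2 G) [IsMulCommutative (S : Subgroup G)] :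
    ∀ v w : (S : Subgroup G), v ≠ 1 → w ≠ 1 →
      Nat.card (stabilizer (autK S) v) = Nat.card (stabilizer (autK S) w) := by
  have key : ∀ v : (S : Subgroup G),
      Nat.card (stabilizer (⊤ : Subgroup (autK S)) v) = Nat.card (stabilizer (autK S) v) :=
    fun v => Nat.card_congr
      { toFun := fun k => ⟨k.1.1, k.2⟩
        invFun := fun k => ⟨⟨k.1, mem_top _⟩, k.2⟩
        left_inv := fun _ => rfl
        right_inv := fun _ => rfl }
  intro v w hv hw
  rw [← key v, ← key w]
  exact le_antisymm (h.card_stab_le S ⊤ topCharacteristic hv hw)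
    (h.card_stab_le S ⊤ topCharacteristic hw hv)

theorem autK_faithful (S : Sylow 2 G) [IsMulCommutative (S : Subgroup G)] (k : autK S)
    (hk : ∀ v : (S : Subgroup G), k • v = v) : k = 1 :=
  Subtype.ext (MulEquiv.ext hk)

theorem Spec.autK_cases [IsSimpleGroup G] (hna : ¬ IsMulCommutative G) (h : Spec G r s)
    (S : Sylow 2 G) [IsMulCommutative (S : Subgroup G)] :
    ∃ p : ℕ, p.Prime ∧ p ≠ 2 ∧
      ((Nat.card (autK S) = p ∧ ∀ v : (S : Subgroup G), v ≠ 1 → stabilizer (autK S) v = ⊥) ∨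
      (p = s ∧ r ∣ s - 1 ∧ Nat.card (autK S) = s * r ∧
        ∀ v : (S : Subgroup G), v ≠ 1 → Nat.card (stabilizer (autK S) v) = r)) := by
  haveI := h.solvable_autK S
  haveI := h.nontrivial_autK hna S
  haveI : Nontrivial (S : Subgroup G) := Finite.one_lt_card_iff_nontrivial.1
    (lt_of_lt_of_le (by norm_num) (h.four_le_sylow hna S))
  obtain ⟨p, hp, hcase⟩ := structure_of_halfTrans (K := autK S) (V := (S : Subgroup G))
    (fun v => Subtype.ext (h.two_exp S v v.2)) (h.odd_autK S)
    (fun k hk => by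
      rcases h.orders_autK S k hk with e | e <;> rw [e]
      exacts [h.hr, h.hs])
    (autK_faithful S) (h.stab_eq S)
    (fun P hP v w hv hw =>
      le_antisymm (h.card_stab_le S P hP hv hw) (h.card_stab_le S P hP hw hv))
  haveI := Fact.mk hp
  have hpd : p ∣ Nat.card (autK S) := by
    rcases hcase with ⟨e, -⟩ | ⟨q, -, -, e, -⟩ <;> rw [e]
    exact dvd_mul_right p q
  have hp2 : p ≠ 2 := fun e => Nat.not_even_iff_odd.2 (h.odd_autK S)
    (even_iff_two_dvd.2 (e ▸ hpd))
  refine ⟨p, hp, hp2, hcase.imp id ?_⟩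
  rintro ⟨q, hq, hqp, hcard, hst⟩
  haveI := Fact.mk hq
  have hne : p ≠ q := fun e => by
    have h1 := Nat.le_of_dvd (by have := hp.two_le; omega) hqp
    have := hp.two_le
    omega
  obtain ⟨v, hv⟩ := exists_ne (1 : (S : Subgroup G))
  obtain ⟨⟨k, hk⟩, hko⟩ := exists_prime_orderOf_dvd_card' (G := stabilizer (autK S) v) q
    (dvd_of_eq (hst v hv).symm)
  rw [Subgroup.orderOf_mk] at hko
  have hk1 : k ≠ 1 := fun e => hq.one_lt.ne' (by rw [← hko, e, orderOf_one])
  have hqs : q ≠ s := by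
    intro e
    obtain ⟨_, n, rfl⟩ := k
    rw [← Subgroup.orderOf_coe] at hko
    dsimp only at hko
    have hd : s ∣ orderOf (n : G) := by
      rw [← e, ← hko, Subgroup.orderOf_coe]
      exact orderOf_map_dvd _ _
    have hno := h.orderOf_of_dvd hd
    have hc : Commute (v : G) (n : G) := by
      have h1 : (n : G) * v * (n : G)⁻¹ = v := congrArg Subtype.val (mem_stabilizer_iff.1 hk)
      exact (mul_inv_eq_iff_eq_mul.1 h1).symm
    exact h.hs2 (h.eq_s_of_commute Nat.prime_two hno
      (h.orderOf_of_pGroup S.2 v.2 fun e' => hv (Subtype.ext e')) hc).symm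
  have hqr : q = r := by
    rcases h.orders_autK S k hk1 with e | e
    · exact hko.symm.trans e
    · exact absurd (hko.symm.trans e) hqs
  obtain ⟨x, hx⟩ := exists_prime_orderOf_dvd_card' (G := autK S) p hpd
  have hps : p = s := by
    rcases h.orders_autK S x (fun e => hp.one_lt.ne' (by rw [← hx, e, orderOf_one])) with e | e
    · exact absurd ((hx.symm.trans e).trans hqr.symm) hne
    · exact hx.symm.trans e
  subst hps
  subst hqr
  exact ⟨rfl, hqp, hcard, hst⟩

end CfsgLib.FiveOrbits
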