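import Mathlib
import Cfsg.Agent.FiveOrbits.Spec

/-!
# Counting the elements of the two odd orders
-/

set_option autoImplicit false
set_option linter.style.haveILetI false
set_option maxHeartbeats 1000000

namespace CfsgLib.FiveOrbits

open Subgroup

variable {G : Type*} [Group G] [Finite G] {r s : ℕ}

/-- The number of elements of a given order. -/
noncomputable abbrev num (G : Type*) [Group G] (n : ℕ) : ℕ := Nat.card {g : G // orderOf g = n}

theorem card_ne_one (H : Subgroup G) : Nat.card {w : G // w ∈ H ∧ w ≠ 1} + 1 = Nat.card H := by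
  classical
  haveI := Fintype.ofFinite H
  haveI := Fintype.ofFinite {w : G // w ∈ H ∧ w ≠ 1}
  have e : {w : G // w ∈ H ∧ w ≠ 1} ≃ {w : H // w ≠ 1} :=
    { toFun := fun w => ⟨⟨w.1, w.2.1⟩, fun e => w.2.2 (congrArg Subtype.val e)⟩
      invFun := fun w => ⟨w.1.1, w.1.2, fun e => w.2 (Subtype.ext e)⟩
      left_inv := fun _ => rfl
      right_inv := fun _ => rfl }
  rw [Nat.card_congr e, Nat.card_eq_fintype_card, Nat.card_eq_fintype_card,
    Fintype.card_subtype_compl, Fintype.card_subtype_eq]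
  have := Fintype.card_pos (α := H)
  omega

theorem orderOf_conj' (h w : G) : orderOf (h * w * h⁻¹) = orderOf w :=
  orderOf_injective (MulAut.conj h).toMonoidHom (MulAut.conj h).injective w

/-- The centre of a subgroup, inside the group. -/
def ctr (H : Subgroup G) : Subgroup G := (Subgroup.center H).map H.subtype

theorem mem_ctr {H : Subgroup G} {a : G} :
    a ∈ ctr H ↔ a ∈ H ∧ ∀ b ∈ H, b * a = a * b := by
  constructor
  · rintro ⟨a, ha, rfl⟩
    exact ⟨a.2, fun b hb => congrArg Subtype.val (mem_center_iff.1 ha ⟨b, hb⟩)⟩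
  · rintro ⟨ha, hc⟩
    exact ⟨⟨a, ha⟩, mem_center_iff.2 fun b => Subtype.ext (hc b b.2), rfl⟩

theorem ctr_le (H : Subgroup G) : ctr H ≤ H := fun _ ha => (mem_ctr.1 ha).1

theorem card_ctr (H : Subgroup G) : Nat.card (ctr H) = Nat.card (Subgroup.center H) :=
  Subgroup.card_map_of_injective H.subtype_injective

theorem exists_ctr {p : ℕ} [Fact p.Prime] (P : Sylow p G) (hd : p ∣ Nat.card G) :
    ∃ a ∈ ctr (P : Subgroup G), a ≠ 1 := by
  haveI : Nontrivial (P : Subgroup G) :=
    (Subgroup.nontrivial_iff_ne_bot _).2 (P.ne_bot_of_dvd_card hd)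
  haveI := P.2.center_nontrivial
  obtain ⟨⟨⟨a, ha⟩, hc⟩, h1⟩ := exists_ne (1 : Subgroup.center (P : Subgroup G))
  exact ⟨a, ⟨⟨a, ha⟩, hc, rfl⟩, fun e => h1 (Subtype.ext (Subtype.ext e))⟩

theorem le_cent_of_mem_ctr {H : Subgroup G} {a : G} (ha : a ∈ ctr H) :
    H ≤ centralizer ({a} : Set G) := fun b hb => mem_cent.2 ((mem_ctr.1 ha).2 b hb)

theorem Spec.cc_s (h : Spec G r s) [Fact s.Prime] (T : Sylow s G) {y : G} (hy : orderOf y = s) :
    cc y = Nat.card (T : Subgroup G) := by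
  obtain ⟨a, ha, ha1⟩ := exists_ctr T h.dvd_card.2.2
  have hao := h.orderOf_of_pGroup T.2 (ctr_le _ ha) ha1
  rw [h.cc_eq (hy.trans hao.symm)]
  show Nat.card _ = _
  rw [T.3 (h.cent_s_isPGroup hao) (le_cent_of_mem_ctr ha)]

/-- Every element of order `s` is central in the Sylow subgroup containing it. -/
theorem s_bound_normalizer (h : Spec G r s) [Fact s.Prime] (T : Sylow s G) :
    num G s * Nat.card (normalizer ((T : Subgroup G) : Set G)) ≤
      Nat.card G * (Nat.card (ctr (T : Subgroup G)) - 1) := by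
  classical
  set Z := ctr (T : Subgroup G) with hZ
  let f : G × {w : G // w ∈ Z ∧ w ≠ 1} → {g : G // orderOf g = s} := fun x =>
    ⟨x.1 * x.2.1 * x.1⁻¹,
      (orderOf_conj' _ _).trans (h.orderOf_of_pGroup T.2 (ctr_le _ x.2.2.1) x.2.2.2)⟩
  have key := mul_le_card f (n := Nat.card (normalizer ((T : Subgroup G) : Set G))) ?_
  · rw [Nat.card_prod] at key
    have := card_ne_one Z
    rwa [show Nat.card {w : G // w ∈ Z ∧ w ≠ 1} = Nat.card Z - 1 by omega] at key
  rintro ⟨y, hy⟩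
  obtain ⟨T', hT'⟩ := (h.cent_s_isPGroup hy).exists_le_sylow
  have heq : centralizer ({y} : Set G) = (T' : Subgroup G) := by
    refine Subgroup.eq_of_le_of_card_ge hT' ?_
    show _ ≤ cc y
    rw [h.cc_s T' hy]
  obtain ⟨g, hg⟩ := MulAction.exists_smul_eq G T T'
  have hmem : ∀ b : G, b ∈ (T : Subgroup G) ↔ g * b * g⁻¹ ∈ (T' : Subgroup G) := by
    intro b
    rw [← hg, Sylow.coe_subgroup_smul, Subgroup.mem_smul_pointwise_iff_exists]
    constructor
    · exact fun hb => ⟨b, hb, by simp⟩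
    · rintro ⟨c, hc, hcb⟩
      have : g * c * g⁻¹ = g * b * g⁻¹ := hcb
      rwa [← mul_left_cancel (mul_right_cancel this)]
  have hw : g⁻¹ * y * g ∈ Z := by
    rw [hZ, mem_ctr]
    constructor
    · rw [hmem, show g * (g⁻¹ * y * g) * g⁻¹ = y by group, ← heq]
      exact mem_cent.2 rfl
    · intro b hb
      have hb' := mem_cent.1 (show g * b * g⁻¹ ∈ centralizer ({y} : Set G) by
        rw [heq]; exact (hmem b).1 hb)
      calc b * (g⁻¹ * y * g) = g⁻¹ * ((g * b * g⁻¹) * y) * g := by group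
        _ = g⁻¹ * (y * (g * b * g⁻¹)) * g := by rw [hb']
        _ = g⁻¹ * y * g * b := by group
  have hy1 : y ≠ 1 := fun e => h.hs.one_lt.ne' (by rw [← hy, e, orderOf_one])
  have hconj : ∀ n ∈ normalizer ((T : Subgroup G) : Set G), n⁻¹ * (g⁻¹ * y * g) * n ∈ Z := by
    intro n hn
    rw [hZ, mem_ctr] at hw ⊢
    refine ⟨(mem_normalizer_iff''.1 hn _).1 hw.1, fun b hb => ?_⟩
    have hb' := hw.2 (n * b * n⁻¹) ((mem_normalizer_iff.1 hn b).1 hb)
    calc b * (n⁻¹ * (g⁻¹ * y * g) * n) = n⁻¹ * ((n * b * n⁻¹) * (g⁻¹ * y * g)) * n := by group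
      _ = n⁻¹ * ((g⁻¹ * y * g) * (n * b * n⁻¹)) * n := by rw [hb']
      _ = n⁻¹ * (g⁻¹ * y * g) * n * b := by group
  refine Nat.card_le_card_of_injective
    (fun n => ⟨(g * n.1, ⟨n.1⁻¹ * (g⁻¹ * y * g) * n.1, hconj n.1 n.2, fun e => hy1 ?_⟩),
      Subtype.ext (by show g * n.1 * _ * (g * n.1)⁻¹ = y; group)⟩) ?_
  · calc y = g * n.1 * (n.1⁻¹ * (g⁻¹ * y * g) * n.1) * (g * n.1)⁻¹ := by group
      _ = 1 := by rw [e]; group
  · intro a b hab
    exact Subtype.ext (mul_left_cancel (congrArg (fun x => x.1.1) hab))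

theorem s_bound [IsSimpleGroup G] (hna : ¬ IsMulCommutative G) (h : Spec G r s) [Fact s.Prime]
    (T : Sylow s G) :
    num G s * (2 * Nat.card (T : Subgroup G)) ≤
      Nat.card G * (Nat.card (T : Subgroup G) - 1) := by
  have h0 := s_bound_normalizer h T
  set N := Nat.card (normalizer ((T : Subgroup G) : Set G)) with hN
  have hTN : Nat.card (T : Subgroup G) ∣ N := card_dvd_of_le le_normalizer
  have hN0 : 0 < N := Nat.card_pos
  obtain ⟨e, he⟩ := hTN
  have he0 : 0 < e := Nat.pos_of_ne_zero fun e0 => by simp [e0] at he; omega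
  have hT0 : 0 < Nat.card (T : Subgroup G) := Nat.card_pos
  have hZT := card_dvd_of_le (ctr_le (T : Subgroup G))
  have hkey : Nat.card (ctr (T : Subgroup G)) * 2 ≤ Nat.card (T : Subgroup G) ∨ 2 ≤ e := by
    by_contra! hcon
    obtain ⟨k, hk⟩ := hZT
    have hk1 : k = 1 := by
      rcases (show k = 0 ∨ k = 1 ∨ 2 ≤ k by omega) with rfl | rfl | hk2
      · simp at hk
        omega
      · rfl
      · nlinarith [hcon.1]
    rw [hk1, mul_one] at hk
    have hctr := Subgroup.eq_of_le_of_card_ge (ctr_le (T : Subgroup G)) hk.le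
    have he1 : e = 1 := by omega
    rw [he1, mul_one] at he
    have hnorm := Subgroup.eq_of_le_of_card_ge
      (le_normalizer (H := (T : Subgroup G))) (by rw [← hN, he])
    refine no_burnside hna h.dvd_card.2.2 T ?_
    intro a ha
    have ha' : a ∈ ctr (T : Subgroup G) := by rw [hctr, hnorm]; exact ha
    exact mem_centralizer_iff.2 fun b hb => (mem_ctr.1 ha').2 b hb
  have hz0 : 0 < Nat.card (ctr (T : Subgroup G)) := Nat.card_pos
  have hzt := Subgroup.card_le_of_le (ctr_le (T : Subgroup G))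
  rw [he] at h0
  rcases hkey with h2 | h2
  · calc num G s * (2 * Nat.card (T : Subgroup G))
          = 2 * (num G s * (Nat.card (T : Subgroup G) * 1)) := by ring
      _ ≤ 2 * (Nat.card G * (Nat.card (ctr (T : Subgroup G)) - 1)) :=
          Nat.mul_le_mul_left _ (le_trans (Nat.mul_le_mul_left _ (Nat.mul_le_mul_left _ he0)) h0)
      _ = Nat.card G * (2 * (Nat.card (ctr (T : Subgroup G)) - 1)) := by ring
      _ ≤ _ := Nat.mul_le_mul_left _ (by omega)
  · calc num G s * (2 * Nat.card (T : Subgroup G))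
          ≤ num G s * (Nat.card (T : Subgroup G) * e) :=
          Nat.mul_le_mul_left _ (by rw [mul_comm _ e]; exact Nat.mul_le_mul_right _ h2)
      _ ≤ _ := h0.trans (Nat.mul_le_mul_left _ (by omega))

theorem Spec.sylow_dvd_cc (h : Spec G r s) [Fact r.Prime] (R : Sylow r G) {x : G}
    (hx : orderOf x = r) : Nat.card (R : Subgroup G) ∣ cc x := by
  obtain ⟨a, ha, ha1⟩ := exists_ctr R h.dvd_card.2.1
  rw [h.cc_eq (hx.trans (h.orderOf_of_pGroup R.2 (ctr_le _ ha) ha1).symm)]
  exact card_dvd_of_le (le_cent_of_mem_ctr ha)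

theorem exists_conj_mem {p : ℕ} [Fact p.Prime] (R : Sylow p G) {x : G} (hx : orderOf x = p) :
    ∃ g : G, g⁻¹ * x * g ∈ (R : Subgroup G) := by
  obtain ⟨Q, hQ⟩ := (IsPGroup.of_card (n := 1) (by rw [Nat.card_zpowers, hx, pow_one]) :
    IsPGroup p (zpowers x)).exists_le_sylow
  obtain ⟨g, hg⟩ := MulAction.exists_smul_eq G R Q
  have hxQ : x ∈ (Q : Subgroup G) := hQ (mem_zpowers x)
  rw [← hg, Sylow.coe_subgroup_smul, Subgroup.mem_smul_pointwise_iff_exists] at hxQ
  obtain ⟨y, hy, hyx⟩ := hxQ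
  refine ⟨g, ?_⟩
  have : g * y * g⁻¹ = x := by simpa using hyx
  rw [← this]
  simpa [mul_assoc] using hy

theorem r_bound [IsSimpleGroup G] (hna : ¬ IsMulCommutative G) (h : Spec G r s) [Fact r.Prime]
    (R : Sylow r G) {x₀ : G} (hx₀ : orderOf x₀ = r) :
    num G r * (2 * cc x₀) ≤ Nat.card G * (Nat.card (R : Subgroup G) - 1) := by
  classical
  let A := G × {w : G // w ∈ (R : Subgroup G) ∧ w ≠ 1}
  let fA : A → {g : G // orderOf g = r} := fun x =>
    ⟨x.1 * x.2.1 * x.1⁻¹,
      (orderOf_conj' _ _).trans (h.orderOf_of_pGroup R.2 x.2.2.1 x.2.2.2)⟩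
  have hA : Nat.card A = Nat.card G * (Nat.card (R : Subgroup G) - 1) := by
    rw [Nat.card_prod, ← card_ne_one (R : Subgroup G), Nat.add_sub_cancel]
  have hne : ∀ (y g : G), orderOf y = r → g⁻¹ * y * g ≠ 1 := fun y g hy e =>
    (Fact.out : r.Prime).one_lt.ne' (by
      rw [← hy, show y = g * (g⁻¹ * y * g) * g⁻¹ by group, e]; simp)
  by_cases hab : ∀ a ∈ (R : Subgroup G), ∀ b ∈ (R : Subgroup G), a * b = b * a
  · rw [← hA]
    refine mul_le_card fA ?_
    rintro ⟨y, hy⟩
    obtain ⟨g, hg⟩ := exists_conj_mem R hy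
    obtain ⟨g₁, hg₁, hg₁ne⟩ : ∃ g₁ : G, g₁⁻¹ * (g⁻¹ * y * g) * g₁ ∈ (R : Subgroup G) ∧
        g₁⁻¹ * (g⁻¹ * y * g) * g₁ ≠ g⁻¹ * y * g := by
      by_contra! hiso
      refine no_isolated hna R hab hg ?_ hiso
      exact h.orderOf_of_pGroup R.2 hg (hne y g hy)
    have hw₁ : (g * g₁)⁻¹ * y * (g * g₁) = g₁⁻¹ * (g⁻¹ * y * g) * g₁ := by group
    rw [h.cc_eq (hx₀.trans hy.symm), show 2 * cc y = Nat.card Bool * cc y by simp,
      ← Nat.card_prod]
    let gg : Bool → G := fun b => if b then g else g * g₁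
    have hgg : ∀ b, (gg b)⁻¹ * y * gg b ∈ (R : Subgroup G) := by
      intro b
      cases b
      · show (g * g₁)⁻¹ * y * (g * g₁) ∈ (R : Subgroup G)
        rw [hw₁]
        exact hg₁
      · show g⁻¹ * y * g ∈ (R : Subgroup G)
        exact hg
    refine Nat.card_le_card_of_injective
      (fun x : Bool × centralizer ({y} : Set G) =>
        (⟨(x.2.1 * gg x.1, ⟨(gg x.1)⁻¹ * y * gg x.1, hgg x.1, hne y _ hy⟩),
          Subtype.ext (by
            show x.2.1 * gg x.1 * ((gg x.1)⁻¹ * y * gg x.1) * (x.2.1 * gg x.1)⁻¹ = y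
            calc _ = x.2.1 * y * x.2.1⁻¹ := by group
              _ = y := by rw [mem_cent.1 x.2.2]; group)⟩ : {a // fA a = ⟨y, hy⟩})) ?_
    rintro ⟨b₁, c₁⟩ ⟨b₂, c₂⟩ hab'
    have hb : b₁ = b₂ := by
      have := congrArg (fun a => (a.1.2 : G)) hab'
      cases b₁ <;> cases b₂
      · rfl
      · change (g * g₁)⁻¹ * y * (g * g₁) = g⁻¹ * y * g at this
        rw [hw₁] at this
        exact absurd this hg₁ne
      · change g⁻¹ * y * g = (g * g₁)⁻¹ * y * (g * g₁) at this
        rw [hw₁] at this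
        exact absurd this.symm hg₁ne
      · rfl
    subst hb
    exact Prod.ext rfl (Subtype.ext (mul_right_cancel (congrArg (fun a => a.1.1) hab')))
  · let Z := ctr (R : Subgroup G)
    let B := G × {w : G // w ∈ Z ∧ w ≠ 1}
    let fB : B → {g : G // orderOf g = r} := fun x =>
      ⟨x.1 * x.2.1 * x.1⁻¹,
        (orderOf_conj' _ _).trans (h.orderOf_of_pGroup R.2 (ctr_le _ x.2.2.1) x.2.2.2)⟩
    let f : A ⊕ (Bool × B) → {g : G // orderOf g = r} := Sum.elim fA (fun x => fB x.2)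
    have hZ4 : 4 * Nat.card Z ≤ Nat.card (R : Subgroup G) := by
      show 4 * Nat.card (ctr _) ≤ _
      rw [card_ctr, ← (Subgroup.center (R : Subgroup G)).card_mul_index, mul_comm 4]
      refine Nat.mul_le_mul_left _ ?_
      obtain ⟨n, hn⟩ := IsPGroup.iff_card.1 R.2
      obtain ⟨k, -, hk⟩ := (Nat.dvd_prime_pow (Fact.out : r.Prime)).1
        (hn ▸ Subgroup.index_dvd_card (Subgroup.center (R : Subgroup G)))
      rw [hk]
      have hr3 : 3 ≤ r := Nat.lt_of_le_of_ne h.hr.two_le h.hr2.symm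
      rcases (show k ≤ 1 ∨ 2 ≤ k by omega) with hk1 | hk2
      · exfalso
        apply hab
        haveI : IsCyclic ((R : Subgroup G) ⧸ Subgroup.center (R : Subgroup G)) := by
          rcases (show k = 0 ∨ k = 1 by omega) with rfl | rfl
          · haveI : Subsingleton ((R : Subgroup G) ⧸ Subgroup.center (R : Subgroup G)) :=
              (Nat.card_eq_one_iff_unique.1 (hk.trans (pow_zero r))).1
            infer_instance
          · exact isCyclic_of_prime_card (hk.trans (pow_one r))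
        haveI := isMulCommutative_of_isCyclic_quotient_center_self (R : Subgroup G)
        exact fun a ha b hb =>
          congrArg Subtype.val (mul_comm' (⟨a, ha⟩ : (R : Subgroup G)) ⟨b, hb⟩)
      · calc 4 ≤ 3 ^ 2 := by norm_num
          _ ≤ r ^ k := (Nat.pow_le_pow_left hr3 2).trans (Nat.pow_le_pow_right (by omega) hk2)
    have key := mul_le_card f (n := 3 * cc x₀) ?_
    · rw [Nat.card_sum, hA, Nat.card_prod, Nat.card_prod] at key
      have h1 := card_ne_one Z
      rw [show Nat.card {w : G // w ∈ Z ∧ w ≠ 1} = Nat.card Z - 1 by omega,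
        show Nat.card Bool = 2 by simp] at key
      have h2 : 4 * (Nat.card Z - 1) ≤ Nat.card (R : Subgroup G) - 1 := by omega
      have h3 := Nat.mul_le_mul_left (Nat.card G) h2
      change Nat.card {g : G // orderOf g = r} * (2 * cc x₀) ≤ _
      ring_nf at key h3 ⊢
      omega
    rintro ⟨y, hy⟩
    rw [h.cc_eq (hx₀.trans hy.symm), show 3 * cc y = Nat.card (Fin 3) * cc y by simp,
      ← Nat.card_prod]
    obtain ⟨g, hg⟩ := exists_conj_mem R hy
    have hfix : ∀ (c : centralizer ({y} : Set G)) (a : G),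
        c.1 * a * (a⁻¹ * y * a) * (c.1 * a)⁻¹ = y := fun c a => by
      calc _ = c.1 * y * c.1⁻¹ := by group
        _ = y := by rw [mem_cent.1 c.2]; group
    by_cases hz : g⁻¹ * y * g ∈ Z
    · refine Nat.card_le_card_of_injective (fun x : Fin 3 × centralizer ({y} : Set G) =>
        (⟨(if x.1 = 0 then Sum.inl (x.2.1 * g, ⟨g⁻¹ * y * g, hg, hne y g hy⟩)
          else Sum.inr (decide (x.1 = 1), (x.2.1 * g, ⟨g⁻¹ * y * g, hz, hne y g hy⟩)) :
            A ⊕ (Bool × B)), ?_⟩ : {a // f a = ⟨y, hy⟩})) ?_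
      · split_ifs
        · exact Subtype.ext (hfix x.2 g)
        · exact Subtype.ext (hfix x.2 g)
      · rintro ⟨i, c₁⟩ ⟨j, c₂⟩ he
        let dec : A ⊕ (Bool × B) → Fin 3 × G :=
          Sum.elim (fun p => (0, p.1)) (fun p => (if p.1 then 1 else 2, p.2.1))
        have hdec : ∀ (i : Fin 3) (c : centralizer ({y} : Set G)),
            dec (if i = 0 then Sum.inl (c.1 * g, ⟨g⁻¹ * y * g, hg, hne y g hy⟩)
              else Sum.inr (decide (i = 1), (c.1 * g, ⟨g⁻¹ * y * g, hz, hne y g hy⟩))) =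
              (i, c.1 * g) := by
          intro i c
          fin_cases i <;> rfl
        have he' := ((hdec i c₁).symm.trans (congrArg dec (congrArg Subtype.val he))).trans
          (hdec j c₂)
        exact Prod.ext (show i = j from congrArg Prod.fst he')
          (Subtype.ext (mul_right_cancel (congrArg Prod.snd he')))
    · obtain ⟨a, ha, hane⟩ : ∃ a ∈ (R : Subgroup G),
          a * (g⁻¹ * y * g) ≠ (g⁻¹ * y * g) * a := by
        by_contra! hc
        exact hz (mem_ctr.2 ⟨hg, hc⟩)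
      have ha1 : a ≠ 1 := fun e => hane (by rw [e, one_mul, mul_one])
      have hao := h.orderOf_of_pGroup R.2 ha ha1
      have hgg : ∀ i : Fin 3, (g * a ^ (i : ℕ))⁻¹ * y * (g * a ^ (i : ℕ)) ∈ (R : Subgroup G) :=
        fun i => by
          rw [show (g * a ^ (i : ℕ))⁻¹ * y * (g * a ^ (i : ℕ)) =
            (a ^ (i : ℕ))⁻¹ * (g⁻¹ * y * g) * a ^ (i : ℕ) by group]
          exact mul_mem (mul_mem (inv_mem (pow_mem ha _)) hg) (pow_mem ha _)
      have hdist : ∀ i j : Fin 3, (i : ℕ) < j →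
          (g * a ^ (i : ℕ))⁻¹ * y * (g * a ^ (i : ℕ)) ≠
            (g * a ^ (j : ℕ))⁻¹ * y * (g * a ^ (j : ℕ)) := by
        intro i j hij e
        obtain ⟨d, hd, hd0, hd3⟩ : ∃ d : ℕ, (j : ℕ) = i + d ∧ 0 < d ∧ d < 3 :=
          ⟨j - i, by omega, by omega, by have := j.2; omega⟩
        rw [hd, pow_add] at e
        have hcomm : Commute (a ^ d) (g⁻¹ * y * g) := by
          show a ^ d * (g⁻¹ * y * g) = g⁻¹ * y * g * a ^ d
          have e' : g⁻¹ * y * g = (a ^ d)⁻¹ * (g⁻¹ * y * g) * a ^ d := by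
            calc g⁻¹ * y * g = a ^ (i : ℕ) * ((g * a ^ (i : ℕ))⁻¹ * y * (g * a ^ (i : ℕ))) *
                  (a ^ (i : ℕ))⁻¹ := by group
              _ = a ^ (i : ℕ) * ((g * (a ^ (i : ℕ) * a ^ d))⁻¹ * y *
                  (g * (a ^ (i : ℕ) * a ^ d))) * (a ^ (i : ℕ))⁻¹ := by rw [e]
              _ = _ := by rw [← pow_add, add_comm, pow_add]; group
          nth_rewrite 1 [e']
          group
        have hcop : d.Coprime (orderOf a) := by
          rw [hao]
          refine Nat.Coprime.symm (h.hr.coprime_iff_not_dvd.2 fun hdd => ?_)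
          have := Nat.le_of_dvd hd0 hdd
          have := Nat.lt_of_le_of_ne h.hr.two_le h.hr2.symm
          omega
        obtain ⟨k, hk⟩ := exists_pow_eq_self_of_coprime hcop
        exact hane (hk ▸ (hcomm.pow_left k).eq)
      refine Nat.card_le_card_of_injective (fun x : Fin 3 × centralizer ({y} : Set G) =>
        (⟨(Sum.inl (x.2.1 * (g * a ^ (x.1 : ℕ)),
            ⟨(g * a ^ (x.1 : ℕ))⁻¹ * y * (g * a ^ (x.1 : ℕ)), hgg x.1, hne y _ hy⟩) :
            A ⊕ (Bool × B)), Subtype.ext (hfix x.2 _)⟩ : {a // f a = ⟨y, hy⟩})) ?_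
      rintro ⟨i, c₁⟩ ⟨j, c₂⟩ he
      have he' := Sum.inl.inj (congrArg Subtype.val he)
      have hw := congrArg (fun p : A => (p.2 : G)) he'
      have hij : i = j := by
        rcases lt_trichotomy (i : ℕ) j with h' | h' | h'
        · exact absurd hw (hdist i j h')
        · exact Fin.ext h'
        · exact absurd hw.symm (hdist j i h')
      subst hij
      exact Prod.ext rfl (Subtype.ext (mul_right_cancel (congrArg (fun p : A => p.1) he')))

end CfsgLib.FiveOrbits
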