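import Mathlib
import Cfsg.Agent.FiveOrbits.AutK
import Cfsg.Agent.FiveOrbits.Sides

/-!
# The centraliser of an involution
-/

set_option autoImplicit false
set_option linter.style.haveILetI false
set_option maxHeartbeats 1000000

namespace CfsgLib.FiveOrbits

open Subgroup MulAction
open scoped IsMulCommutative

variable {G : Type*} [Group G] [Finite G] {r s : ℕ}

/-- The number of elements of even order. -/
noncomputable abbrev numEven (G : Type*) [Group G] (r : ℕ) : ℕ :=
  Nat.card {g : G // orderOf g = 2 ∨ orderOf g = 2 * r}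

/-- The number of elements of odd order centralising `z`. -/
noncomputable abbrev oddC (z : G) : ℕ :=
  Nat.card {u : centralizer ({z} : Set G) // Odd (orderOf u)}

theorem Spec.numEven_le (h : Spec G r s) {z : G} (hz : orderOf z = 2) :
    numEven G r ≤ num G 2 * oddC z := by
  classical
  have key : ∀ g : {g : G // orderOf g = 2 ∨ orderOf g = 2 * r},
      orderOf (g.1 ^ r) = 2 ∧ g.1 ^ r * g.1 ^ (r + 1) = g.1 ∧ Odd (orderOf (g.1 ^ (r + 1))) := by
    rintro ⟨g, hg⟩
    obtain ⟨k, hk⟩ := h.hr.odd_of_ne_two h.hr2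
    have hpow : g ^ (2 * r) = 1 := by
      rcases hg with e | e
      · rw [pow_mul, ← e, pow_orderOf_eq_one, one_pow]
      · rw [← e, pow_orderOf_eq_one]
    refine ⟨orderOf_eq_prime (show (g ^ r) ^ 2 = 1 by rw [← pow_mul, mul_comm, hpow]) ?_, ?_, ?_⟩
    · intro e
      have hd := Nat.le_of_dvd h.hr.pos (orderOf_dvd_of_pow_eq_one e)
      rcases hg with e' | e'
      · have hd2 : 2 ∣ r := e' ▸ orderOf_dvd_of_pow_eq_one e
        omega
      · rw [e'] at hd
        have := h.hr.pos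
        omega
    · rw [← pow_add, show r + (r + 1) = 2 * r + 1 by omega, pow_succ, hpow, one_mul]
    · refine Odd.of_dvd_nat (⟨k, hk⟩ : Odd r) (orderOf_dvd_of_pow_eq_one ?_)
      show (g ^ (r + 1)) ^ r = 1
      rw [← pow_mul, hk, show (2 * k + 1 + 1) * (2 * k + 1) = 2 * (2 * k + 1) * (k + 1) by ring,
        ← hk, pow_mul, hpow, one_pow]
  have hφ : ∀ w : {g : G // orderOf g = 2}, ∃ φ : MulAut G, φ w.1 = z :=
    fun w => h.aut _ _ (w.2.trans hz.symm)
  choose φ hφ using hφ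
  rw [← Nat.card_prod]
  refine Nat.card_le_card_of_injective (fun g =>
    ((⟨g.1 ^ r, (key g).1⟩ : {g : G // orderOf g = 2}),
      (⟨⟨φ ⟨g.1 ^ r, (key g).1⟩ (g.1 ^ (r + 1)), ?_⟩, ?_⟩ :
        {u : centralizer ({z} : Set G) // Odd (orderOf u)}))) ?_
  · refine mem_cent.2 ?_
    conv_lhs => rw [← hφ ⟨g.1 ^ r, (key g).1⟩]
    conv_rhs => rw [← hφ ⟨g.1 ^ r, (key g).1⟩]
    simp only [← map_mul, ← pow_add, add_comm]
  · rw [← Subgroup.orderOf_coe, MulEquiv.orderOf_eq]
    exact (key g).2.2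
  · intro g₁ g₂ e
    obtain ⟨e1, e2⟩ := Prod.ext_iff.1 e
    simp only [Subtype.ext_iff] at e2
    have e1' : g₁.1 ^ r = g₂.1 ^ r := congrArg Subtype.val e1
    have e1'' : (⟨g₁.1 ^ r, (key g₁).1⟩ : {g : G // orderOf g = 2}) = ⟨g₂.1 ^ r, (key g₂).1⟩ := e1
    rw [e1''] at e2
    refine Subtype.ext ?_
    rw [← (key g₁).2.1, ← (key g₂).2.1, e1', (φ _).injective e2]

theorem Spec.invol_le (h : Spec G r s) (S : Sylow 2 G) [IsMulCommutative (S : Subgroup G)] {z : G}
    (hz : orderOf z = 2) {L : ℕ}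
    (hL : ∀ v : (S : Subgroup G), v ≠ 1 → L ≤ Nat.card (MulAction.orbit (autK S) v)) :
    num G 2 * (cc z * L) ≤ Nat.card G * (Nat.card (S : Subgroup G) - 1) := by
  classical
  let f : G × {w : G // w ∈ (S : Subgroup G) ∧ w ≠ 1} → {g : G // orderOf g = 2} := fun x =>
    ⟨x.1 * x.2.1 * x.1⁻¹,
      (orderOf_conj' _ _).trans (h.orderOf_of_pGroup S.2 x.2.2.1 x.2.2.2)⟩
  have key := mul_le_card f (n := cc z * L) ?_
  · rwa [Nat.card_prod, show Nat.card {w : G // w ∈ (S : Subgroup G) ∧ w ≠ 1} =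
      Nat.card (S : Subgroup G) - 1 by have := card_ne_one (S : Subgroup G); omega] at key
  rintro ⟨y, hy⟩
  obtain ⟨g, hg⟩ := exists_conj_mem S hy
  have hg1 : g⁻¹ * y * g ≠ 1 := fun e => absurd hy (by
    rw [show y = g * (g⁻¹ * y * g) * g⁻¹ by group, e]; simp)
  set v : (S : Subgroup G) := ⟨g⁻¹ * y * g, hg⟩ with hv
  have hv1 : v ≠ 1 := fun e => hg1 (congrArg Subtype.val e)
  refine le_trans ?_ (Nat.card_le_card_of_injective
    (α := centralizer ({y} : Set G) × MulAction.orbit (autK S) v) ?_ ?_)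
  · rw [Nat.card_prod, h.cc_eq (hz.trans hy.symm)]
    exact Nat.mul_le_mul_left _ (hL v hv1)
  · intro x
    have hx := x.2.2
    choose k hk using hx
    choose n hn using k.2
    refine ⟨(x.1.1 * g * (n : G)⁻¹, ⟨(x.2.1 : G), (x.2.1).2, fun e => ?_⟩), Subtype.ext ?_⟩
    · have hk' : k • v = 1 := hk.trans (Subtype.ext e)
      exact hv1 ((MulEquiv.map_eq_one_iff (k : MulAut (S : Subgroup G))).1 hk')
    · have hval : (x.2.1 : G) = (n : G) * (g⁻¹ * y * g) * (n : G)⁻¹ := by
        rw [← hk]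
        show (((k : MulAut (S : Subgroup G)) v : (S : Subgroup G)) : G) = _
        rw [← hn]
        rfl
      show x.1.1 * g * (n : G)⁻¹ * (x.2.1 : G) * (x.1.1 * g * (n : G)⁻¹)⁻¹ = y
      rw [hval]
      calc _ = x.1.1 * y * x.1.1⁻¹ := by group
        _ = y := by rw [mem_cent.1 x.1.2]; group
  · intro a b hab
    have h2 : a.2 = b.2 :=
      Subtype.ext (Subtype.ext (congrArg (fun p => (p.1.2 : G)) hab))
    have h1 := congrArg (fun p => p.1.1) hab
    obtain ⟨a1, a2⟩ := a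
    obtain ⟨b1, b2⟩ := b
    dsimp only at h1 h2
    subst h2
    exact Prod.ext (Subtype.ext (mul_right_cancel (mul_right_cancel h1))) rfl

/-- The fixed points in `S` of a subgroup of `autK S`. -/
def fixSub (S : Sylow 2 G) (P : Subgroup (autK S)) : Subgroup (S : Subgroup G) where
  carrier := {v | ∀ k ∈ P, ((k : autK S) : MulAut (S : Subgroup G)) v = v}
  one_mem' := fun k _ => map_one _
  mul_mem' := fun ha hb k hk => by rw [map_mul, ha k hk, hb k hk]
  inv_mem' := fun ha k hk => by rw [map_inv, ha k hk]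

theorem mem_fixSub {S : Sylow 2 G} {P : Subgroup (autK S)} {v : (S : Subgroup G)} :
    v ∈ fixSub S P ↔ ∀ k ∈ P, ((k : autK S) : MulAut (S : Subgroup G)) v = v := Iff.rfl

/-- The structure of the centraliser of `z` modulo its odd core. -/
theorem Spec.exists_psi (h : Spec G r s) [Fact r.Prime] (S : Sylow 2 G)
    [IsMulCommutative (S : Subgroup G)] (z : (S : Subgroup G)) (hz : z ≠ 1)
    [hn : (Cfsg.pCore r (centralizer ({(z : G)} : Set G))).Normal] :
    ∃ ψ : (centralizer ({(z : G)} : Set G)) ⧸ Cfsg.pCore r (centralizer ({(z : G)} : Set G)) →*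
        stabilizer (autK S) z,
      Function.Surjective ψ ∧ (∀ a ∈ ψ.ker, a * a = 1) ∧
      Nat.card ψ.ker = Nat.card (S : Subgroup G) ∧
      ∀ u, Nat.card (fixSub S (zpowers ((ψ u : stabilizer (autK S) z) : autK S))) ≤
        Nat.card ↥(ψ.ker ⊓ centralizer {u}) := by
  classical
  have hzo : orderOf (z : G) = 2 := h.orderOf_of_pGroup S.2 z.2 fun e => hz (Subtype.ext e)
  set C := centralizer ({(z : G)} : Set G) with hC
  set O := Cfsg.pCore r C with hO
  have hOp : IsPGroup r O := Solvable.isPGroup_pCore r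
  have hO2 : (Nat.card O).Coprime 2 := by
    obtain ⟨k, hk⟩ := IsPGroup.iff_card.1 hOp
    rw [hk]
    exact Nat.Coprime.pow_left k ((Nat.coprime_primes h.hr Nat.prime_two).2 h.hr2)
  have hSC : (S : Subgroup G) ≤ C := fun b hb => mem_cent.2 (h.two_comm S b hb z z.2)
  set SC : Sylow 2 C := S.subtype hSC with hSCdef
  have hSCmem : ∀ a : C, a ∈ (SC : Subgroup C) ↔ (a : G) ∈ (S : Subgroup G) := fun a => Iff.rfl
  have hdisj : ∀ a : C, a ∈ (SC : Subgroup C) → a ∈ O → a = 1 := fun a ha haO =>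
    mem_bot.1 ((IsPGroup.disjoint_of_ne 2 r h.hr2.symm _ _ SC.2 hOp).le_bot ⟨ha, haO⟩)
  set f := QuotientGroup.mk' O with hf
  have hfs : Function.Surjective f := QuotientGroup.mk'_surjective O
  set SQ : Sylow 2 (C ⧸ O) := SC.mapSurjective hfs with hSQdef
  have hSQ : (SQ : Subgroup (C ⧸ O)) = (SC : Subgroup C).map f := rfl
  have hab : ∀ a ∈ (SQ : Subgroup (C ⧸ O)), ∀ b ∈ (SQ : Subgroup (C ⧸ O)), a * b = b * a := by
    rintro _ ⟨a, ha, rfl⟩ _ ⟨b, hb, rfl⟩
    rw [← map_mul, ← map_mul]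
    exact congrArg f (Subtype.ext (h.two_comm S _ ha _ hb))
  obtain ⟨hSn, hScent⟩ := sylow_normal_self_centralizing (Q := C ⧸ O) (r := r)
    (fun p hp hd => h.cent_two_primes hzo hp (hd.trans (card_quotient_dvd_card O)))
    (CfsgLib.PLocal.pCore_quotient_pCore_eq_bot r C) SQ hab
  set W := normalizer ((SC : Subgroup C) : Set C) with hW
  have hWtop : W.map f = ⊤ := by
    rw [hW, hf, ← CfsgLib.PLocal.normalizer_map_mk'_eq O hO2 SC.2, ← hf, ← hSQ,
      normalizer_eq_top_iff.2 hSn]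
  let fW : W →* C ⧸ O := f.comp W.subtype
  have hfWs : Function.Surjective fW := by
    intro q
    obtain ⟨w, hw, rfl⟩ : q ∈ W.map f := hWtop ▸ mem_top q
    exact ⟨⟨w, hw⟩, rfl⟩
  have hWN : ∀ w : W, ((w : C) : G) ∈ normalizer ((S : Subgroup G) : Set G) := by
    intro w
    rw [mem_normalizer_iff_map_conj_eq]
    refine Subgroup.eq_of_le_of_card_ge ?_ (le_of_eq
      (Subgroup.card_map_of_injective (MulAut.conj ((w : C) : G)).injective).symm)
    rintro _ ⟨b, hb, rfl⟩
    exact ((mem_normalizer_iff.1 w.2 ⟨b, hSC hb⟩).1 hb)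
  let ρ := (S : Subgroup G).normalizerMonoidHom
  let σ : W →* stabilizer (autK S) z :=
    { toFun := fun w => ⟨⟨ρ ⟨_, hWN w⟩, ⟨_, rfl⟩⟩, by
        rw [mem_stabilizer_iff]
        refine Subtype.ext ?_
        show ((w : C) : G) * z * ((w : C) : G)⁻¹ = z
        rw [mem_cent.1 (w : C).2, mul_inv_cancel_right]⟩
      map_one' := Subtype.ext (Subtype.ext (map_one ρ))
      map_mul' := fun a b => Subtype.ext (Subtype.ext (map_mul ρ ⟨_, hWN a⟩ ⟨_, hWN b⟩)) }
  have hσval : ∀ (w : W) (b : (S : Subgroup G)),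
      (((σ w : autK S) : MulAut (S : Subgroup G)) b : G) =
        ((w : C) : G) * b * ((w : C) : G)⁻¹ := fun _ _ => rfl
  have hker : fW.ker ≤ σ.ker := by
    intro w hw
    have hwO : (w : C) ∈ O := (QuotientGroup.eq_one_iff (w : C)).1 hw
    refine Subtype.ext (Subtype.ext (MulEquiv.ext fun b => Subtype.ext ?_))
    show ((w : C) : G) * b * ((w : C) : G)⁻¹ = b
    have hmemS : (w : C) * ⟨b, hSC b.2⟩ * (w : C)⁻¹ * (⟨b, hSC b.2⟩ : C)⁻¹ ∈ (SC : Subgroup C) :=
      mul_mem ((mem_normalizer_iff.1 w.2 _).1 b.2)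
        (inv_mem (show (⟨b, hSC b.2⟩ : C) ∈ (SC : Subgroup C) from b.2))
    have hmemO : (w : C) * ⟨b, hSC b.2⟩ * (w : C)⁻¹ * (⟨b, hSC b.2⟩ : C)⁻¹ ∈ O := by
      have := mul_mem hwO (hn.conj_mem _ (inv_mem hwO) ⟨b, hSC b.2⟩)
      simpa [mul_assoc] using this
    have h1 : ((w : C) : G) * b * ((w : C) : G)⁻¹ * (b : G)⁻¹ = 1 :=
      congrArg Subtype.val (hdisj _ hmemS hmemO)
    exact mul_inv_eq_one.1 h1
  let ψ := fW.liftOfSurjective hfWs ⟨σ, hker⟩
  have hψ : ∀ w : W, ψ (fW w) = σ w := fun w =>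
    MonoidHom.liftOfRightInverse_comp_apply fW _ (Function.rightInverse_surjInv hfWs) ⟨σ, hker⟩ w
  have hψs : Function.Surjective ψ := by
    rintro ⟨⟨_, ⟨m, rfl⟩⟩, hm⟩
    have hfix : (m : G) * z * (m : G)⁻¹ = z := congrArg Subtype.val (mem_stabilizer_iff.1 hm)
    have hmC : (m : G) ∈ C := mem_cent.2 (mul_inv_eq_iff_eq_mul.1 hfix)
    have hmW : (⟨m, hmC⟩ : C) ∈ W :=
      mem_normalizer_iff.2 fun c => mem_normalizer_iff.1 m.2 (c : G)
    exact ⟨fW ⟨_, hmW⟩, hψ ⟨_, hmW⟩⟩
  have hkerψ : ψ.ker = (SC : Subgroup C).map f := by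
    refine le_antisymm (fun u hu => ?_) ?_
    · obtain ⟨w, rfl⟩ := hfWs u
      rw [MonoidHom.mem_ker, hψ] at hu
      rw [← hSQ]
      refine hScent (mem_centralizer_iff.2 ?_)
      rw [hSQ]
      rintro _ ⟨b, hb, rfl⟩
      show f b * f (w : C) = f (w : C) * f b
      rw [← map_mul, ← map_mul]
      refine congrArg f (Subtype.ext ?_)
      have h1 : ((w : C) : G) * (b : G) * ((w : C) : G)⁻¹ = b := by
        have := hσval w ⟨b, hb⟩
        rw [hu] at this
        exact this.symm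
      exact (mul_inv_eq_iff_eq_mul.1 h1).symm
    · rintro _ ⟨b, hb, rfl⟩
      have hbW : b ∈ W := le_normalizer hb
      rw [MonoidHom.mem_ker]
      show ψ (fW ⟨b, hbW⟩) = 1
      rw [hψ]
      exact Subtype.ext (Subtype.ext (h.rho_ker_eq_one S (n := ⟨_, hWN ⟨b, hbW⟩⟩) hb))
  have hinj : ∀ a b : C, a ∈ (SC : Subgroup C) → b ∈ (SC : Subgroup C) → f a = f b → a = b := by
    intro a b ha hb e
    exact inv_mul_eq_one.1 (hdisj _ (mul_mem (inv_mem ha) hb) ((QuotientGroup.eq).1 e))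
  refine ⟨ψ, hψs, ?_, ?_, ?_⟩
  · intro a ha
    rw [hkerψ] at ha
    obtain ⟨b, hb, rfl⟩ := ha
    rw [← map_mul, show b * b = 1 from Subtype.ext (h.two_exp S _ hb), map_one]
  · rw [hkerψ]
    calc Nat.card ↥((SC : Subgroup C).map f) = Nat.card (SC : Subgroup C) := by
          refine (Nat.card_congr (Equiv.ofBijective (fun b : (SC : Subgroup C) =>
            (⟨f b, mem_map_of_mem f b.2⟩ : ↥((SC : Subgroup C).map f))) ⟨?_, ?_⟩)).symm
          · intro a b e
            exact Subtype.ext (hinj _ _ a.2 b.2 (congrArg Subtype.val e))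
          · rintro ⟨_, b, hb, rfl⟩
            exact ⟨⟨b, hb⟩, rfl⟩
      _ = _ := Nat.card_congr (subgroupOfEquivOfLe hSC).toEquiv
  · intro u
    obtain ⟨w, rfl⟩ := hfWs u
    refine Nat.card_le_card_of_injective
      (fun b => ⟨f ⟨(b.1 : G), hSC b.1.2⟩, ?_, ?_⟩) ?_
    · show _ ∈ ψ.ker
      rw [hkerψ]
      exact mem_map_of_mem f (show (⟨(b.1 : G), hSC b.1.2⟩ : C) ∈ (SC : Subgroup C) from b.1.2)
    · show _ ∈ centralizer _
      refine mem_centralizer_singleton_iff.2 ?_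
      show f _ * f (w : C) = f (w : C) * f _
      rw [← map_mul, ← map_mul]
      refine congrArg f (Subtype.ext ?_)
      have h1 := mem_fixSub.1 b.2 _ (mem_zpowers _)
      have h3 := congrArg Subtype.val h1
      rw [show ((((ψ (fW w) : stabilizer (autK S) z) : autK S) : MulAut (S : Subgroup G)) b.1 : G) =
        ((w : C) : G) * (b.1 : G) * ((w : C) : G)⁻¹ from (congrArg (fun k : stabilizer (autK S) z =>
          ((((k : autK S) : MulAut (S : Subgroup G)) b.1 : (S : Subgroup G)) : G)) (hψ w)).trans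
          (hσval w b.1)] at h3
      have h2 : ((w : C) : G) * (b.1 : G) * ((w : C) : G)⁻¹ = b.1 := h3
      exact (mul_inv_eq_iff_eq_mul.1 h2).symm
    · intro a b e
      have h1 := hinj _ _ (show (⟨(a.1 : G), hSC a.1.2⟩ : C) ∈ (SC : Subgroup C) from a.1.2)
        (show (⟨(b.1 : G), hSC b.1.2⟩ : C) ∈ (SC : Subgroup C) from b.1.2)
        (congrArg Subtype.val e)
      exact Subtype.ext (Subtype.ext (congrArg (fun x : C => (x : G)) h1))

/-- The bound on the odd elements of the centraliser. -/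
theorem Spec.oddC_le (h : Spec G r s) [Fact r.Prime] (S : Sylow 2 G)
    [IsMulCommutative (S : Subgroup G)] (z : (S : Subgroup G)) (hz : z ≠ 1) {D : ℕ}
    (hκ : Nat.card (stabilizer (autK S) z) = 1 ∨ Nat.card (stabilizer (autK S) z) = r)
    (hD : ∀ k : stabilizer (autK S) z, k ≠ 1 → D ≤ Nat.card (fixSub S (zpowers (k : autK S)))) :
    oddC (z : G) * D * (Nat.card (S : Subgroup G) * Nat.card (stabilizer (autK S) z)) ≤
      cc (z : G) * (D + (Nat.card (stabilizer (autK S) z) - 1) * Nat.card (S : Subgroup G)) := by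
  classical
  haveI hn : (Cfsg.pCore r (centralizer ({(z : G)} : Set G))).Normal := Solvable.pCore_normal r
  obtain ⟨ψ, hψs, hexp, hcard, hfix⟩ := h.exists_psi S z hz
  have hodd := odd_le ψ hψs hexp h.hr2 hκ (D := D)
    (fun u hu => (hD (ψ u) hu).trans (hfix u))
  rw [hcard] at hodd
  set C := centralizer ({(z : G)} : Set G) with hC
  set O := Cfsg.pCore r C with hO
  have hCcard : cc (z : G) =
      Nat.card O * (Nat.card (S : Subgroup G) * Nat.card (stabilizer (autK S) z)) := by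
    show Nat.card C = _
    rw [← O.card_mul_index, Subgroup.index, ← ψ.ker.card_mul_index, index_ker,
      MonoidHom.range_eq_top.2 hψs, card_top, hcard]
  have hC1 : oddC (z : G) ≤ Nat.card {u : C ⧸ O // Odd (orderOf u)} * Nat.card O := by
    refine card_le_mul (fun u : {u : C // Odd (orderOf u)} =>
      (⟨(u.1 : C ⧸ O), Odd.of_dvd_nat u.2 (orderOf_map_dvd (QuotientGroup.mk' O) u.1)⟩ :
        {u : C ⧸ O // Odd (orderOf u)})) fun y => ?_
    rcases isEmpty_or_nonempty {u : {u : C // Odd (orderOf u)} //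
      (⟨(u.1 : C ⧸ O), Odd.of_dvd_nat u.2 (orderOf_map_dvd (QuotientGroup.mk' O) u.1)⟩ :
        {u : C ⧸ O // Odd (orderOf u)}) = y} with he | hne
    · simp
    · let u₀ := Classical.choice hne
      refine Nat.card_le_card_of_injective (fun u => (⟨u₀.1.1⁻¹ * u.1.1,
        (QuotientGroup.eq).1 (congrArg Subtype.val (u₀.2.trans u.2.symm))⟩ : O)) ?_
      intro a b e
      exact Subtype.ext (Subtype.ext (mul_left_cancel (congrArg Subtype.val e)))
  rw [hCcard]
  calc oddC (z : G) * D * (Nat.card (S : Subgroup G) * Nat.card (stabilizer (autK S) z))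
      ≤ Nat.card {u : C ⧸ O // Odd (orderOf u)} * Nat.card O * D *
          (Nat.card (S : Subgroup G) * Nat.card (stabilizer (autK S) z)) :=
        Nat.mul_le_mul_right _ (Nat.mul_le_mul_right _ hC1)
    _ = Nat.card O * (Nat.card (S : Subgroup G) * Nat.card (stabilizer (autK S) z)) *
          (Nat.card {u : C ⧸ O // Odd (orderOf u)} * D) := by ring
    _ ≤ _ := Nat.mul_le_mul_left _ hodd

/-- With trivial stabiliser the odd elements of the centraliser lie in its core. -/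
theorem Spec.odd_mem_core (h : Spec G r s) [Fact r.Prime] (S : Sylow 2 G)
    [IsMulCommutative (S : Subgroup G)] (z : (S : Subgroup G)) (hz : z ≠ 1)
    (hκ : stabilizer (autK S) z = ⊥) (u : centralizer ({(z : G)} : Set G))
    (hu : Odd (orderOf u)) : u ∈ Cfsg.pCore r (centralizer ({(z : G)} : Set G)) := by
  haveI hn : (Cfsg.pCore r (centralizer ({(z : G)} : Set G))).Normal := Solvable.pCore_normal r
  obtain ⟨ψ, -, hexp, -, -⟩ := h.exists_psi S z hz
  set u' := (u : centralizer ({(z : G)} : Set G) ⧸ Cfsg.pCore r (centralizer ({(z : G)} : Set G)))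
    with hu'
  have h1 : ψ u' = 1 := Subtype.ext ((eq_bot_iff.1 hκ) (ψ u').2)
  have hd := orderOf_dvd_of_pow_eq_one ((pow_two u').trans (hexp u' h1))
  have hodd' : Odd (orderOf u') :=
    Odd.of_dvd_nat hu (orderOf_map_dvd (QuotientGroup.mk' _) u)
  rcases (Nat.dvd_prime Nat.prime_two).1 hd with e | e
  · exact (QuotientGroup.eq_one_iff u).1 (orderOf_eq_one_iff.1 e)
  · rw [e] at hodd'
    exact absurd hodd' (by decide)

end CfsgLib.FiveOrbits
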