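import Mathlib
import Cfsg.Agent.FiveOrbits.Cz

/-!
# The two possible automisers
-/

set_option autoImplicit false
set_option linter.style.haveILetI false
set_option maxHeartbeats 1000000

namespace CfsgLib.FiveOrbits

open Subgroup MulAction
open scoped IsMulCommutative

variable {G : Type*} [Group G] [Finite G] {r s : ℕ}

theorem four_dvd_of_three {H : Subgroup G} (hH : IsPGroup 2 H) {a b c : G} (ha : a ∈ H)
    (hb : b ∈ H) (hc : c ∈ H) (hab : a ≠ b) (hac : a ≠ c) (hbc : b ≠ c) :
    4 ∣ Nat.card H := by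
  classical
  haveI := Fintype.ofFinite H
  have h3 := Finset.card_le_univ ({⟨a, ha⟩, ⟨b, hb⟩, ⟨c, hc⟩} : Finset H)
  rw [Finset.card_insert_of_notMem (by simp [hab, hac]), Finset.card_pair (by simpa using hbc),
    ← Nat.card_eq_fintype_card] at h3
  obtain ⟨n, hn⟩ := IsPGroup.iff_card.1 hH
  rw [hn] at h3 ⊢
  rcases (show n ≤ 1 ∨ 2 ≤ n by omega) with h1 | h2
  · have := Nat.pow_le_pow_right (show 0 < 2 by norm_num) h1
    omega
  · exact pow_dvd_pow 2 h2

/-- Four divides the centraliser order when the stabiliser is trivial and `S` is large. -/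
theorem Spec.four_dvd_cc (h : Spec G r s) [Fact r.Prime] (S : Sylow 2 G)
    [IsMulCommutative (S : Subgroup G)] (z : (S : Subgroup G)) (hz : z ≠ 1)
    (hκ : stabilizer (autK S) z = ⊥) (h8 : 8 ≤ Nat.card (S : Subgroup G)) :
    ∃ x : G, orderOf x = r ∧ 4 ∣ cc x := by
  classical
  have hz' : (z : G) ≠ 1 := fun e => hz (Subtype.ext e)
  have hzo : orderOf (z : G) = 2 := h.orderOf_of_pGroup S.2 z.2 hz'
  set C := centralizer ({(z : G)} : Set G) with hC
  set O := Cfsg.pCore r C with hO
  haveI hn : O.Normal := Solvable.pCore_normal r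
  have hSC : (S : Subgroup G) ≤ C := fun b hb => mem_cent.2 (h.two_comm S b hb z z.2)
  obtain ⟨g₀, hg₀⟩ := h.two_r
  have hw : orderOf (g₀ ^ r) = 2 := by
    rw [orderOf_pow' _ h.hr.ne_zero, hg₀, Nat.gcd_mul_left_left, Nat.mul_div_cancel _ h.hr.pos]
  have hu : orderOf (g₀ ^ 2) = r := by
    rw [orderOf_pow' _ two_ne_zero, hg₀, Nat.gcd_mul_right_left, Nat.mul_div_cancel_left _ two_pos]
  obtain ⟨φ, hφ⟩ := h.aut _ _ (hw.trans hzo.symm)
  have hxC : φ (g₀ ^ 2) ∈ C := by
    refine mem_cent.2 ?_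
    rw [← hφ, ← map_mul, ← map_mul, ← pow_add, ← pow_add, add_comm]
  have hxO : (⟨_, hxC⟩ : C) ∈ O := h.odd_mem_core S z hz hκ _ (by
    rw [Subgroup.orderOf_mk, MulEquiv.orderOf_eq, hu]
    exact h.hr.odd_of_ne_two h.hr2)
  have hO1 : Nontrivial O := by
    refine ⟨⟨⟨_, hxO⟩, 1, fun e => ?_⟩⟩
    have e' : φ (g₀ ^ 2) = 1 := congrArg (fun x : O => ((x : C) : G)) e
    rw [MulEquiv.map_eq_one_iff] at e'
    rw [e', orderOf_one] at hu
    exact h.hr.one_lt.ne hu
  have hOp : IsPGroup r O := Solvable.isPGroup_pCore r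
  haveI := hOp.center_nontrivial
  obtain ⟨⟨u, hu⟩, hu1⟩ := exists_ne (1 : Subgroup.center O)
  have hu1' : u ≠ 1 := fun e => hu1 (Subtype.ext e)
  haveI := Fintype.ofFinite (S : Subgroup G)
  obtain ⟨b, -, hb⟩ : ∃ b ∈ (Finset.univ : Finset (S : Subgroup G)),
      b ∉ ({1, z} : Finset (S : Subgroup G)) := by
    refine Finset.exists_mem_notMem_of_card_lt_card ?_
    rw [Finset.card_univ, ← Nat.card_eq_fintype_card]
    exact Finset.card_le_two.trans_lt (by omega)
  obtain ⟨c, -, hc⟩ : ∃ c ∈ (Finset.univ : Finset (S : Subgroup G)),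
      c ∉ ({1, z, b, z * b} : Finset (S : Subgroup G)) := by
    refine Finset.exists_mem_notMem_of_card_lt_card ?_
    rw [Finset.card_univ, ← Nat.card_eq_fintype_card]
    exact Finset.card_le_four.trans_lt (by omega)
  simp only [Finset.mem_insert, Finset.mem_singleton, not_or] at hb hc
  let B : C := ⟨b, hSC b.2⟩
  let Cc : C := ⟨c, hSC c.2⟩
  let cj : C → O → O := fun a x => ⟨a * x * a⁻¹, hn.conj_mem _ x.2 a⟩
  have hcomm : ∀ x y : O, x * u = u * x := fun x _ => mem_center_iff.1 hu x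
  have hexp : ∀ a : (S : Subgroup G), ((⟨a, hSC a.2⟩ : C)) * ⟨a, hSC a.2⟩ = 1 := fun a =>
    Subtype.ext (h.two_exp S a a.2)
  have hfix : ∀ a : (S : Subgroup G), cj ⟨a, hSC a.2⟩ (u * cj ⟨a, hSC a.2⟩ u) =
      u * cj ⟨a, hSC a.2⟩ u := by
    intro a
    rw [← hcomm (cj ⟨a, hSC a.2⟩ u) u]
    refine Subtype.ext ?_
    show (⟨a, hSC a.2⟩ : C) * (((⟨a, hSC a.2⟩ : C) * u * (⟨a, hSC a.2⟩ : C)⁻¹) * u) *
      (⟨a, hSC a.2⟩ : C)⁻¹ = _
    have e : (⟨a, hSC a.2⟩ : C)⁻¹ = ⟨a, hSC a.2⟩ := inv_eq_of_mul_eq_one_left (hexp a)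
    calc _ = ((⟨a, hSC a.2⟩ : C) * ⟨a, hSC a.2⟩) * u *
          ((⟨a, hSC a.2⟩ : C)⁻¹ * u * (⟨a, hSC a.2⟩ : C)⁻¹) := by simp only [mul_assoc]
      _ = (u : C) * ((⟨a, hSC a.2⟩ : C) * u * (⟨a, hSC a.2⟩ : C)⁻¹) := by
          rw [hexp a, one_mul]
          nth_rewrite 1 [e]
          rfl
      _ = _ := by
          rw [hcomm (cj ⟨a, hSC a.2⟩ u) u]
          rfl
  obtain ⟨w, y, hw1, hwz, hy1, hwy⟩ : ∃ (w : (S : Subgroup G)) (y : O), w ≠ 1 ∧ w ≠ z ∧
      y ≠ 1 ∧ cj ⟨w, hSC w.2⟩ y = y := by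
    by_cases h1 : u * cj B u = 1
    · by_cases h2 : u * cj Cc u = 1
      · refine ⟨b * c, u, ?_, ?_, hu1', ?_⟩
        · intro e
          apply hc.2.2.1
          calc c = (b * b) * c := by
                rw [show b * b = 1 from Subtype.ext (h.two_exp S b b.2), one_mul]
            _ = b := by rw [mul_assoc, e, mul_one]
        · intro e
          apply hc.2.2.2
          calc c = (b * b) * c := by
                rw [show b * b = 1 from Subtype.ext (h.two_exp S b b.2), one_mul]
            _ = z * b := by rw [mul_assoc, e, mul_comm]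
        · have e1 : cj B u = u⁻¹ := eq_inv_of_mul_eq_one_right h1
          have e2 : cj Cc u = u⁻¹ := eq_inv_of_mul_eq_one_right h2
          have e4 : cj B (u⁻¹) = (cj B u)⁻¹ := Subtype.ext (by
            show B * (u : C)⁻¹ * B⁻¹ = (B * (u : C) * B⁻¹)⁻¹
            group)
          have e3 : cj B (u⁻¹) = u := by rw [e4, e1, inv_inv]
          calc cj ⟨((b * c : (S : Subgroup G)) : G), hSC (b * c).2⟩ u = cj B (cj Cc u) := by
                refine Subtype.ext ?_
                show B * Cc * (u : C) * (B * Cc)⁻¹ = B * (Cc * (u : C) * Cc⁻¹) * B⁻¹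
                simp [mul_assoc]
            _ = u := by rw [e2, e3]
      · exact ⟨c, _, hc.1, hc.2.1, h2, hfix c⟩
    · exact ⟨b, _, hb.1, hb.2, h1, hfix b⟩
  have hy1' : ((y : C) : G) ≠ 1 := fun e => hy1 (Subtype.ext (Subtype.ext e))
  have hyo : orderOf ((y : C) : G) = r :=
    h.orderOf_of_pGroup (hOp.map C.subtype |>.map (MonoidHom.id G))
      ⟨_, mem_map_of_mem C.subtype y.2, rfl⟩ hy1'
  refine ⟨((y : C) : G), hyo, ?_⟩
  have hwy' : (w : G) * ((y : C) : G) * (w : G)⁻¹ = ((y : C) : G) :=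
    congrArg (fun x : O => ((x : C) : G)) hwy
  refine dvd_trans ?_ (card_dvd_of_le (inf_le_right :
    (S : Subgroup G) ⊓ centralizer ({((y : C) : G)} : Set G) ≤ _))
  refine four_dvd_of_three (S.2.to_le inf_le_left) (one_mem _)
    (b := (z : G)) ⟨z.2, mem_cent.2 (mem_cent.1 (y : C).2).symm⟩
    (c := (w : G)) ⟨w.2, mem_cent.2 (mul_inv_eq_iff_eq_mul.1 hwy')⟩
    (Ne.symm hz') (fun e => hw1 (Subtype.ext e.symm)) (fun e => hwz (Subtype.ext e.symm))

theorem Spec.card_orbit_eq (S : Sylow 2 G) [IsMulCommutative (S : Subgroup G)]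
    (v : (S : Subgroup G)) :
    Nat.card (MulAction.orbit (autK S) v) * Nat.card (stabilizer (autK S) v) =
      Nat.card (autK S) := by
  rw [← Nat.card_prod]
  exact Nat.card_congr (orbitProdStabilizerEquivGroup (autK S) v)

/-- The lift of an element of order `r` of a stabiliser. -/
theorem Spec.exists_lift (h : Spec G r s) (S : Sylow 2 G) [IsMulCommutative (S : Subgroup G)]
    (k : autK S) (hk : orderOf k = r) :
    ∃ x : G, orderOf x = r ∧ Nat.card (fixSub S (zpowers k)) ∣ cc x := by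
  obtain ⟨_, n, rfl⟩ := k
  rw [← Subgroup.orderOf_coe] at hk
  dsimp only at hk
  have hd : r ∣ orderOf (n : G) := by
    rw [← hk, Subgroup.orderOf_coe]
    exact orderOf_map_dvd _ _
  have hn1 : (n : G) ≠ 1 := fun e => by
    rw [e, orderOf_one, Nat.dvd_one] at hd
    exact h.hr.one_lt.ne' hd
  have hcase : orderOf (n : G) = r ∨ orderOf (n : G) = 2 * r := by
    rcases h.ord _ hn1 with e | e | e | e
    · rw [e] at hd
      exact absurd ((Nat.prime_dvd_prime_iff_eq h.hr Nat.prime_two).1 hd) h.hr2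
    · exact Or.inl e
    · rw [e] at hd
      exact absurd ((Nat.prime_dvd_prime_iff_eq h.hr h.hs).1 hd) h.hrs
    · exact Or.inr e
  refine ⟨(n : G) ^ 2, ?_, ?_⟩
  · rcases hcase with e | e
    · rw [Nat.Coprime.orderOf_pow (by rw [e]; exact (Nat.coprime_primes h.hr Nat.prime_two).2 h.hr2), e]
    · rw [orderOf_pow' _ two_ne_zero, e, Nat.gcd_mul_right_left, Nat.mul_div_cancel_left _ two_pos]
  · rw [← Subgroup.card_map_of_injective (S : Subgroup G).subtype_injective]
    refine card_dvd_of_le ?_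
    rintro _ ⟨v, hv, rfl⟩
    have h1 : (n : G) * v * (n : G)⁻¹ = v :=
      congrArg Subtype.val (mem_fixSub.1 hv _ (mem_zpowers _))
    exact mem_cent.2 (Commute.pow_right
      (show Commute (v : G) (n : G) from (mul_inv_eq_iff_eq_mul.1 h1).symm) 2).eq

theorem Spec.dvd_normalizer (h : Spec G r s) [Fact r.Prime] [Fact s.Prime] (S : Sylow 2 G)
    [IsMulCommutative (S : Subgroup G)] (hS1 : 4 ≤ Nat.card (S : Subgroup G))
    (hcard : Nat.card (autK S) = s * r) (hrs : r ∣ s - 1) (T : Sylow s G) :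
    r * Nat.card (T : Subgroup G) ∣ Nat.card (normalizer ((T : Subgroup G) : Set G)) := by
  classical
  have hrlt : r < s := by
    have h1 := Nat.le_of_dvd (by have := h.hs.two_le; omega) hrs
    have := h.hs.two_le
    omega
  let N := normalizer ((S : Subgroup G) : Set G)
  let ρ : N →* autK S := (S : Subgroup G).normalizerMonoidHom.rangeRestrict
  have hρs : Function.Surjective ρ := MonoidHom.rangeRestrict_surjective _
  obtain ⟨P₀⟩ : Nonempty (Sylow s (autK S)) := inferInstance
  have hP₀c : Nat.card (P₀ : Subgroup (autK S)) = s := by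
    rw [P₀.card_eq_multiplicity, hcard, Nat.factorization_mul h.hs.ne_zero h.hr.ne_zero,
      Finsupp.add_apply, h.hs.factorization_self, h.hr.factorization,
      Finsupp.single_eq_of_ne h.hrs.symm, add_zero, pow_one]
  have huniq : Subsingleton (Sylow s (autK S)) := by
    have h1 := card_sylow_modEq_one s (autK S)
    have h2 := P₀.card_dvd_index
    have h3 : (P₀ : Subgroup (autK S)).index = r := by
      have := (P₀ : Subgroup (autK S)).card_mul_index
      rw [hP₀c, hcard] at this
      exact Nat.eq_of_mul_eq_mul_left h.hs.pos this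
    rw [h3] at h2
    refine (Nat.card_eq_one_iff_unique.1 ?_).1
    rcases (Nat.dvd_prime h.hr).1 h2 with e | e
    · exact e
    · exfalso
      rw [e, Nat.ModEq, Nat.mod_eq_of_lt hrlt, Nat.one_mod_eq_one.2 h.hs.one_lt.ne'] at h1
      exact h.hr.one_lt.ne' h1
  haveI hP₀n : (P₀ : Subgroup (autK S)).Normal := Sylow.normal_of_subsingleton P₀
  let L : Subgroup N := (P₀ : Subgroup (autK S)).comap ρ
  haveI : L.Normal := hP₀n.comap ρ
  obtain ⟨Y⟩ : Nonempty (Sylow s L) := inferInstance
  set Y' := (Y : Subgroup L).map L.subtype with hY'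
  have hfr := Sylow.normalizer_sup_eq_top Y
  obtain ⟨n, hn, hnL⟩ : ∃ n ∈ normalizer (Y' : Set N), n ∉ L := by
    by_contra! hcon
    have htop : L = ⊤ := by
      rw [← hfr]
      exact (sup_eq_right.2 hcon).symm
    have : (P₀ : Subgroup (autK S)) = ⊤ := eq_top_iff.2 fun k _ => by
      obtain ⟨m, rfl⟩ := hρs k
      exact (htop ▸ mem_top m : m ∈ L)
    rw [this, card_top, hcard] at hP₀c
    exact h.hr.one_lt.ne' (Nat.eq_of_mul_eq_mul_left h.hs.pos (hP₀c.trans (mul_one s).symm))
  have hρn : orderOf (ρ n) = r := by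
    refine (h.orders_autK S (ρ n) fun e =>
      hnL (show ρ n ∈ (P₀ : Subgroup (autK S)) from e ▸ one_mem _)).resolve_right
      fun e => hnL ?_
    obtain ⟨Q, hQ⟩ := (IsPGroup.of_card (n := 1) (by rw [Nat.card_zpowers, e, pow_one]) :
      IsPGroup s (zpowers (ρ n))).exists_le_sylow
    rw [Subsingleton.elim Q P₀] at hQ
    exact hQ (mem_zpowers _)
  have hrn : r ∣ orderOf n := hρn ▸ orderOf_map_dvd ρ n
  set x := n ^ (orderOf n / r) with hx
  have hxo : orderOf (x : G) = r := by
    rw [Subgroup.orderOf_coe]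
    exact orderOf_pow_orderOf_div (orderOf_pos n).ne' hrn
  have hxn : x ∈ normalizer (Y' : Set N) := pow_mem hn _
  set Yg := Y'.map N.subtype with hYg
  have hYp : IsPGroup s Yg := (Y.2.map L.subtype).map N.subtype
  have hxYg : ∀ b ∈ Yg, (x : G) * b * (x : G)⁻¹ ∈ Yg := by
    rintro _ ⟨b, hb, rfl⟩
    exact ⟨x * b * x⁻¹, (mem_normalizer_iff.1 hxn b).1 hb, rfl⟩
  have hYc : Nat.card Yg = s := by
    have hsd : s ∣ Nat.card L := by
      refine hP₀c ▸ ?_
      have := Subgroup.card_map_dvd L ρ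
      rwa [Subgroup.map_comap_eq_self_of_surjective hρs] at this
    have h1 : s ∣ Nat.card Yg := by
      rw [hYg, Subgroup.card_map_of_injective N.subtype_injective, hY',
        Subgroup.card_map_of_injective L.subtype_injective]
      exact Y.dvd_card_of_dvd_card hsd
    have hinj : Function.Injective (ρ.comp Y'.subtype) := by
      refine (injective_iff_map_eq_one _).2 fun b hb => by_contra fun hb1 => ?_
      have hb1' : ((b : N) : G) ≠ 1 := fun e => hb1 (Subtype.ext (Subtype.ext e))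
      have hbo := h.orderOf_of_pGroup hYp (mem_map_of_mem N.subtype b.2) hb1'
      obtain ⟨z, hz⟩ : ∃ z : (S : Subgroup G), z ≠ 1 := by
        haveI : Nontrivial (S : Subgroup G) := Finite.one_lt_card_iff_nontrivial.1 (by omega)
        exact exists_ne 1
      have h2 : ((b : N) : G) * z * ((b : N) : G)⁻¹ = z := by
        have := congrArg (fun k : autK S => (((k : MulAut (S : Subgroup G)) z : _) : G)) hb
        exact this
      exact h.hs2 (h.eq_s_of_commute Nat.prime_two hbo
        (h.orderOf_of_pGroup S.2 z.2 fun e => hz (Subtype.ext e))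
        (mul_inv_eq_iff_eq_mul.1 h2).symm).symm
    have h2 := Subgroup.card_dvd_of_injective _ hinj
    rw [← Subgroup.card_map_of_injective N.subtype_injective, ← hYg, hcard] at h2
    obtain ⟨i, hi⟩ := IsPGroup.iff_card.1 hYp
    rw [hi] at h1 h2 ⊢
    rcases (show i = 0 ∨ i = 1 ∨ 2 ≤ i by omega) with rfl | rfl | hi2
    · rw [pow_zero, Nat.dvd_one] at h1
      exact absurd h1 h.hs.one_lt.ne'
    · exact pow_one s
    · exfalso
      have h3 : s * s ∣ s * r := ((pow_two s ▸ pow_dvd_pow s hi2 : s * s ∣ s ^ i)).trans h2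
      exact h.hrs ((Nat.prime_dvd_prime_iff_eq h.hs h.hr).1
        (Nat.dvd_of_mul_dvd_mul_left h.hs.pos h3)).symm
  obtain ⟨y, hy, hy1⟩ : ∃ y ∈ Yg, y ≠ 1 := by
    by_contra! hc
    rw [(eq_bot_iff_forall _).2 hc, Subgroup.card_bot] at hYc
    exact h.hs.one_lt.ne hYc
  have hyo := h.orderOf_of_pGroup hYp hy hy1
  have hYz : zpowers y = Yg := Subgroup.eq_of_le_of_card_ge (zpowers_le.2 hy)
    (by rw [Nat.card_zpowers, hyo, hYc])
  obtain ⟨T', hT'⟩ := (h.cent_s_isPGroup hyo).exists_le_sylow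
  have heq : centralizer ({y} : Set G) = (T' : Subgroup G) := by
    refine Subgroup.eq_of_le_of_card_ge hT' ?_
    show _ ≤ cc y
    rw [h.cc_s T' hyo]
  have hxT' : (x : G) ∈ normalizer ((T' : Subgroup G) : Set G) := by
    rw [← heq, mem_normalizer_iff_map_conj_eq]
    refine Subgroup.eq_of_le_of_card_ge ?_ (le_of_eq
      (Subgroup.card_map_of_injective (MulAut.conj (x : G)).injective).symm)
    rintro _ ⟨b, hb, rfl⟩
    have h1 : (x : G)⁻¹ * y * (x : G) ∈ Yg := by
      have hxinv := inv_mem hxn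
      obtain ⟨y₀, hy₀, rfl⟩ := hy
      exact ⟨x⁻¹ * y₀ * x, by simpa using (mem_normalizer_iff.1 hxinv y₀).1 hy₀, rfl⟩
    rw [← hYz] at h1
    obtain ⟨j, hj⟩ := mem_zpowers_iff.1 h1
    have hb' : b * y ^ j = y ^ j * b := Commute.zpow_right (mem_cent.1 hb) j
    refine mem_cent.2 ?_
    show (x : G) * b * (x : G)⁻¹ * y = y * ((x : G) * b * (x : G)⁻¹)
    calc (x : G) * b * (x : G)⁻¹ * y = (x : G) * (b * ((x : G)⁻¹ * y * x)) * (x : G)⁻¹ := by group
      _ = (x : G) * ((((x : G)⁻¹ * y * x)) * b) * (x : G)⁻¹ := by rw [← hj, hb']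
      _ = _ := by group
  have hcardN : Nat.card (normalizer ((T : Subgroup G) : Set G)) =
      Nat.card (normalizer ((T' : Subgroup G) : Set G)) := by
    have h1 : (normalizer ((T : Subgroup G) : Set G)).index =
        (normalizer ((T' : Subgroup G) : Set G)).index :=
      T.card_eq_index_normalizer.symm.trans T'.card_eq_index_normalizer
    have h2 := (normalizer ((T : Subgroup G) : Set G)).card_mul_index
    have h3 := (normalizer ((T' : Subgroup G) : Set G)).card_mul_index
    exact Nat.eq_of_mul_eq_mul_right (Nat.pos_of_ne_zero Subgroup.index_ne_zero_of_finite)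
      ((h2.trans h3.symm).trans (congrArg (_ * ·) h1.symm))
  rw [hcardN]
  refine Nat.Coprime.mul_dvd_of_dvd_of_dvd ?_ ?_ ?_
  · obtain ⟨i, hi⟩ := IsPGroup.iff_card.1 T.2
    rw [hi]
    exact Nat.Coprime.pow_right i ((Nat.coprime_primes h.hr h.hs).2 h.hrs)
  · exact hxo ▸ Subgroup.orderOf_mk (x : G) hxT' ▸ orderOf_dvd_natCard
      (⟨(x : G), hxT'⟩ : normalizer ((T' : Subgroup G) : Set G))
  · rw [T.card_eq_multiplicity, ← T'.card_eq_multiplicity]
    exact card_dvd_of_le le_normalizer

/-- The two-side of the class equation. -/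
theorem Spec.two_side [IsSimpleGroup G] (hna : ¬ IsMulCommutative G) (h : Spec G r s)
    [Fact r.Prime] [Fact s.Prime] (S : Sylow 2 G) :
    4 ≤ Nat.card (S : Subgroup G) ∧
    ((∃ p, 3 ≤ p ∧ Odd p ∧
        numEven G r * (p * Nat.card (S : Subgroup G)) ≤
          Nat.card G * (Nat.card (S : Subgroup G) - 1) ∧
        (p < 5 → Nat.card (S : Subgroup G) = 4 ∨ ∃ x : G, orderOf x = r ∧ 4 ∣ cc x)) ∨
      (∃ D E, Nat.card (S : Subgroup G) = D * E ∧ 2 * D ≤ E ∧ 2 ≤ D ∧
        numEven G r * (r * Nat.card (S : Subgroup G)) ≤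
          Nat.card G * ((D - 1) * (1 + (r - 1) * E)) ∧
        (∃ x : G, orderOf x = r ∧ D ∣ cc x) ∧
        ∀ T : Sylow s G, r * Nat.card (T : Subgroup G) ∣
          Nat.card (normalizer ((T : Subgroup G) : Set G)))) := by
  classical
  haveI : IsMulCommutative (S : Subgroup G) :=
    ⟨⟨fun a b => Subtype.ext (h.two_comm S a a.2 b b.2)⟩⟩
  have hS4 := h.four_le_sylow hna S
  refine ⟨hS4, ?_⟩
  haveI : Nontrivial (S : Subgroup G) := Finite.one_lt_card_iff_nontrivial.1 (by omega)
  obtain ⟨z, hz⟩ := exists_ne (1 : (S : Subgroup G))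
  have hzo : orderOf (z : G) = 2 := h.orderOf_of_pGroup S.2 z.2 fun e => hz (Subtype.ext e)
  have hC0 : 0 < cc (z : G) := Nat.card_pos
  have hne := h.numEven_le hzo
  obtain ⟨m, hm⟩ := IsPGroup.iff_card.1 S.2
  obtain ⟨p, hp, hp2, hcase⟩ := h.autK_cases hna S
  rcases hcase with ⟨hK, hst⟩ | ⟨-, hrs, hK, hst⟩
  · refine Or.inl ⟨p, Nat.lt_of_le_of_ne hp.two_le hp2.symm, hp.odd_of_ne_two hp2, ?_, ?_⟩
    · have hinv := h.invol_le S hzo (L := p) fun v hv => by
        have := Spec.card_orbit_eq S v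
        rw [hst v hv, Subgroup.card_bot, mul_one, hK] at this
        exact this.ge
      have hodd := h.oddC_le S z hz (D := 1) (Or.inl (by rw [hst z hz, Subgroup.card_bot]))
        (fun k _ => Nat.card_pos)
      rw [hst z hz, Subgroup.card_bot, mul_one, mul_one, Nat.sub_self, zero_mul, add_zero,
        mul_one] at hodd
      refine Nat.le_of_mul_le_mul_right ?_ hC0
      calc numEven G r * (p * Nat.card (S : Subgroup G)) * cc (z : G)
          ≤ num G 2 * oddC (z : G) * (p * Nat.card (S : Subgroup G)) * cc (z : G) :=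
            Nat.mul_le_mul_right _ (Nat.mul_le_mul_right _ hne)
        _ = num G 2 * (cc (z : G) * p) * (oddC (z : G) * Nat.card (S : Subgroup G)) := by ring
        _ ≤ _ := Nat.mul_le_mul hinv hodd
    · intro _
      rcases (show Nat.card (S : Subgroup G) = 4 ∨ 8 ≤ Nat.card (S : Subgroup G) by
        rw [hm] at hS4 ⊢
        rcases (show m ≤ 2 ∨ 3 ≤ m by omega) with h2 | h3
        · exact Or.inl (le_antisymm ((Nat.pow_le_pow_right two_pos h2).trans (by norm_num)) hS4)
        · exact Or.inr (le_trans (by norm_num) (Nat.pow_le_pow_right two_pos h3))) with h4 | h8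
      · exact Or.inl h4
      · exact Or.inr (h.four_dvd_cc S z hz (hst z hz) h8)
  · right
    haveI : Group.IsSolvable (autK S) := h.solvable_autK S
    have hV : ∀ v : (S : Subgroup G), v * v = 1 := fun v => Subtype.ext (h.two_exp S v v.2)
    have hfac : (Nat.card (autK S)).factorization r = 1 := by
      rw [hK, Nat.factorization_mul h.hs.ne_zero h.hr.ne_zero, Finsupp.add_apply,
        h.hr.factorization_self, h.hs.factorization, Finsupp.single_eq_of_ne h.hrs, zero_add]
    let syl : {v : (S : Subgroup G) // v ≠ 1} → Sylow r (autK S) := fun v =>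
      Sylow.ofCard (stabilizer (autK S) v.1) (by rw [hst v.1 v.2, hfac, pow_one])
    have hQc : ∀ Q : Sylow r (autK S), Nat.card (Q : Subgroup (autK S)) = r := fun Q => by
      rw [Q.card_eq_multiplicity, hfac, pow_one]
    have hfixiff : ∀ (Q : Sylow r (autK S)) (v : {v : (S : Subgroup G) // v ≠ 1}),
        syl v = Q ↔ v.1 ∈ fixSub S Q := by
      intro Q v
      constructor
      · rintro rfl
        exact mem_fixSub.2 fun k hk => mem_stabilizer_iff.1 hk
      · intro hv
        refine Sylow.ext ?_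
        show stabilizer (autK S) v.1 = (Q : Subgroup (autK S))
        exact (Subgroup.eq_of_le_of_card_ge (fun k hk => mem_stabilizer_iff.2 (mem_fixSub.1 hv k hk))
          (by rw [hst v.1 v.2, hQc Q])).symm
    let Q₀ := syl ⟨z, hz⟩
    have hQ₀ : (Q₀ : Subgroup (autK S)) = stabilizer (autK S) z := rfl
    set D := Nat.card (fixSub S (Q₀ : Subgroup (autK S))) with hD
    have hDQ : ∀ Q : Sylow r (autK S), Nat.card (fixSub S (Q : Subgroup (autK S))) = D := by
      intro Q
      obtain ⟨g, hg⟩ := MulAction.exists_smul_eq (autK S) Q₀ Q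
      have hmem : ∀ k, k ∈ (Q : Subgroup (autK S)) ↔ g⁻¹ * k * g ∈ (Q₀ : Subgroup (autK S)) := by
        intro k
        rw [← hg, Sylow.coe_subgroup_smul, Subgroup.mem_smul_pointwise_iff_exists]
        constructor
        · rintro ⟨y, hy, rfl⟩
          simpa [mul_assoc] using hy
        · exact fun hk => ⟨_, hk, by simp [mul_assoc]⟩
      refine (Nat.card_congr ((MulEquiv.toEquiv (g : MulAut (S : Subgroup G))).subtypeEquiv
        fun v => ?_)).symm
      show v ∈ fixSub S _ ↔ (g : MulAut (S : Subgroup G)) v ∈ fixSub S _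
      rw [mem_fixSub, mem_fixSub]
      constructor
      · intro hv k hk
        have := congrArg (g : MulAut (S : Subgroup G)) (hv _ ((hmem k).1 hk))
        simpa using this
      · intro hv k hk
        have := hv (g * k * g⁻¹) ((hmem _).2 (by simpa [mul_assoc] using hk))
        simpa using this
    have hD2 : 2 ≤ D := by
      haveI : Nontrivial (fixSub S (Q₀ : Subgroup (autK S))) :=
        ⟨⟨⟨z, (hfixiff Q₀ ⟨z, hz⟩).1 rfl⟩, 1, fun e => hz (congrArg Subtype.val e)⟩⟩
      exact Finite.one_lt_card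
    have hcount : Nat.card {v : (S : Subgroup G) // v ≠ 1} =
        Nat.card (Sylow r (autK S)) * (D - 1) := by
      haveI := Fintype.ofFinite (Sylow r (autK S))
      rw [← Nat.card_congr (Equiv.sigmaFiberEquiv syl), Nat.card_sigma]
      rw [Finset.sum_congr rfl fun Q _ => (show Nat.card {v // syl v = Q} = D - 1 from ?_),
        Finset.sum_const, Finset.card_univ, smul_eq_mul, Nat.card_eq_fintype_card]
      rw [← hDQ Q, ← card_ne_one (fixSub S (Q : Subgroup (autK S))), Nat.add_sub_cancel]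
      exact Nat.card_congr
        { toFun := fun v => ⟨v.1.1, (hfixiff Q v.1).1 v.2, v.1.2⟩
          invFun := fun w => ⟨⟨w.1, w.2.2⟩, (hfixiff Q ⟨w.1, w.2.2⟩).2 w.2.1⟩
          left_inv := fun _ => rfl
          right_inv := fun _ => rfl }
    have hnsy : Nat.card (Sylow r (autK S)) = s := by
      have h1 := Q₀.card_dvd_index
      have h2 : (Q₀ : Subgroup (autK S)).index = s := by
        have := (Q₀ : Subgroup (autK S)).card_mul_index
        rw [hQc Q₀, hK, mul_comm s] at this
        exact Nat.eq_of_mul_eq_mul_left h.hr.pos this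
      rw [h2] at h1
      rcases (Nat.dvd_prime h.hs).1 h1 with e | e
      · exfalso
        haveI : Subsingleton (Sylow r (autK S)) := (Nat.card_eq_one_iff_unique.1 e).1
        haveI := Sylow.normal_of_subsingleton Q₀
        refine hz (noFix hV (h.odd_autK S) (autK_faithful S) (h.stab_eq S)
          (B := (Q₀ : Subgroup (autK S))) ?_ fun k hk => ?_)
        · intro e'
          have := hQc Q₀
          rw [e', Subgroup.card_bot] at this
          exact h.hr.one_lt.ne this
        · exact mem_stabilizer_iff.1 (hQ₀ ▸ hk : k ∈ stabilizer (autK S) z)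
      · exact e
    have hMs : Nat.card (S : Subgroup G) - 1 = s * (D - 1) := by
      rw [← hnsy, ← hcount]
      have := card_ne_one (⊤ : Subgroup (S : Subgroup G))
      rw [card_top, Nat.card_congr (Equiv.subtypeEquivRight
        (fun v : (S : Subgroup G) => (and_iff_right (mem_top v) :
          v ∈ (⊤ : Subgroup (S : Subgroup G)) ∧ v ≠ 1 ↔ v ≠ 1)))] at this
      omega
    obtain ⟨E, hE⟩ := Subgroup.card_subgroup_dvd_card (fixSub S (Q₀ : Subgroup (autK S)))
    rw [← hD] at hE
    have hDD : D * D ≤ Nat.card (S : Subgroup G) := by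
      haveI : Nontrivial (Sylow r (autK S)) :=
        Finite.one_lt_card_iff_nontrivial.1 (hnsy ▸ h.hs.one_lt)
      obtain ⟨Q₁, hQ₁⟩ := exists_ne Q₀
      have key : Nat.card (fixSub S (Q₀ : Subgroup (autK S))) *
          Nat.card (fixSub S (Q₁ : Subgroup (autK S))) ≤ Nat.card (S : Subgroup G) := by
        rw [← Nat.card_prod]
        refine Nat.card_le_card_of_injective (fun x => (x.1 : (S : Subgroup G)) * x.2) ?_
        refine (Subgroup.mul_injective_of_disjoint ?_)
        rw [disjoint_iff_inf_le]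
        rintro v ⟨h0, h1⟩
        by_contra hv
        exact hQ₁ (((hfixiff Q₁ ⟨v, hv⟩).2 h1).symm.trans ((hfixiff Q₀ ⟨v, hv⟩).2 h0))
      rwa [← hD, hDQ Q₁] at key
    obtain ⟨d, hdm, hd⟩ := (Nat.dvd_prime_pow Nat.prime_two).1
      (hm ▸ (Subgroup.card_subgroup_dvd_card (fixSub S (Q₀ : Subgroup (autK S)))) : D ∣ 2 ^ m)
    have hrle : 3 ≤ r := Nat.lt_of_le_of_ne h.hr.two_le h.hr2.symm
    have hE2 : 2 * D ≤ E := by
      have hDE : D ≤ E := Nat.le_of_mul_le_mul_left (hE ▸ hDD) (by omega)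
      obtain ⟨e, hem, he⟩ := (Nat.dvd_prime_pow Nat.prime_two).1
        (hm ▸ ⟨D, hE.trans (mul_comm D E)⟩ : E ∣ 2 ^ m)
      rcases eq_or_lt_of_le ((Nat.pow_le_pow_iff_right (by norm_num)).1 (hd ▸ he ▸ hDE :
        2 ^ d ≤ 2 ^ e)) with hde | hde
      · exfalso
        have hED : E = D := by rw [he, hd, hde]
        rw [hE, hED] at hMs
        have hsD : s = D + 1 := by
          have h1 : D * D - 1 = (D + 1) * (D - 1) := by
            obtain ⟨k, hk⟩ : ∃ k, D = k + 1 := ⟨D - 1, by omega⟩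
            rw [hk, Nat.add_sub_cancel]
            have : (k + 1) * (k + 1) = (k + 1 + 1) * k + 1 := by ring
            omega
          exact Nat.eq_of_mul_eq_mul_right (by omega) (hMs.symm.trans h1)
        rw [hsD, Nat.add_sub_cancel, hd] at hrs
        exact h.hr2 (Nat.prime_eq_prime_of_dvd_pow h.hr Nat.prime_two hrs)
      · rw [he, hd, ← pow_succ']
        exact Nat.pow_le_pow_right two_pos hde
    have hκ : Nat.card (stabilizer (autK S) z) = r := hst z hz
    have hgen : ∀ k : stabilizer (autK S) z, k ≠ 1 → zpowers (k : autK S) = stabilizer (autK S) z := by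
      intro k hk
      refine Subgroup.eq_of_le_of_card_ge (zpowers_le.2 k.2) ?_
      rw [hκ, Nat.card_zpowers, Subgroup.orderOf_coe]
      exact le_of_eq ((((Nat.dvd_prime h.hr).1 (hκ ▸ orderOf_dvd_natCard k)).resolve_left
        fun e => hk (orderOf_eq_one_iff.1 e))).symm
    refine ⟨D, E, hE, hE2, hD2, ?_, ?_, h.dvd_normalizer S hS4 hK hrs⟩
    · have hinv := h.invol_le S hzo (L := s) fun v hv => by
        have := Spec.card_orbit_eq S v
        rw [hst v hv, hK] at this
        exact (Nat.eq_of_mul_eq_mul_right h.hr.pos this).ge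
      have hodd := h.oddC_le S z hz (D := D) (Or.inr hκ) fun k hk => by
        rw [hgen k hk, ← hQ₀]
      rw [hκ] at hodd
      have hodd' : oddC (z : G) * (Nat.card (S : Subgroup G) * r) ≤
          cc (z : G) * (1 + (r - 1) * E) := by
        refine Nat.le_of_mul_le_mul_left (c := D) ?_ (by omega)
        calc D * (oddC (z : G) * (Nat.card (S : Subgroup G) * r))
            = oddC (z : G) * D * (Nat.card (S : Subgroup G) * r) := by ring
          _ ≤ _ := hodd
          _ = _ := by rw [hE]; ring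
      refine Nat.le_of_mul_le_mul_right (c := s * cc (z : G)) ?_ (Nat.mul_pos h.hs.pos hC0)
      calc numEven G r * (r * Nat.card (S : Subgroup G)) * (s * cc (z : G))
          ≤ num G 2 * oddC (z : G) * (r * Nat.card (S : Subgroup G)) * (s * cc (z : G)) :=
            Nat.mul_le_mul_right _ (Nat.mul_le_mul_right _ hne)
        _ = num G 2 * (cc (z : G) * s) * (oddC (z : G) * (Nat.card (S : Subgroup G) * r)) := by ring
        _ ≤ Nat.card G * (Nat.card (S : Subgroup G) - 1) * (cc (z : G) * (1 + (r - 1) * E)) :=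
            Nat.mul_le_mul hinv hodd'
        _ = _ := by rw [hMs]; ring
    · obtain ⟨k, hk⟩ := exists_prime_orderOf_dvd_card' (G := stabilizer (autK S) z) r hκ.symm.dvd
      have hk1 : k ≠ 1 := fun e => h.hr.one_lt.ne' (by rw [← hk, e, orderOf_one])
      obtain ⟨x, hx, hdvd⟩ := h.exists_lift S (k : autK S) (by rw [Subgroup.orderOf_coe, hk])
      refine ⟨x, hx, ?_⟩
      rwa [hgen k hk1, ← hQ₀] at hdvd

end CfsgLib.FiveOrbits
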