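import Mathlib
import Cfsg.Agent.FiveOrbits.TwoSide

/-!
# The class equation
-/

set_option autoImplicit false
set_option linter.style.haveILetI false
set_option maxHeartbeats 1000000

namespace CfsgLib.FiveOrbits

open Subgroup

theorem arith_frobenius {g Ne Nr Ns r D E T : ℕ} (hr : 3 ≤ r) (hD : 2 ≤ D) (hE : 2 * D ≤ E)
    (hT : 0 < T) (htot : g ≤ 1 + Ne + Nr + Ns) (hA : Ne * (r * (D * E)) ≤ g * ((D - 1) * (1 + (r - 1) * E)))
    (hB : Nr * (2 * D) ≤ g) (hC : Ns * (r * T) ≤ g * (T - 1)) : g ≤ r * T := by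
  obtain ⟨q, rfl⟩ : ∃ q, r = q + 3 := ⟨r - 3, by omega⟩
  obtain ⟨d, rfl⟩ : ∃ d, D = d + 1 := ⟨D - 1, by omega⟩
  obtain ⟨e, rfl⟩ : ∃ e, E = 2 * (d + 1) + e := ⟨E - 2 * (d + 1), by omega⟩
  obtain ⟨t, rfl⟩ : ∃ t, T = t + 1 := ⟨T - 1, by omega⟩
  simp only [Nat.add_sub_cancel, show q + 3 - 1 = q + 2 from rfl] at hA hC
  set E := 2 * (d + 1) + e with hEdef
  have hkey : 2 * (t + 1) * (d * (1 + (q + 2) * E)) + (q + 3) * E * (t + 1) + 2 * (d + 1) * E * t
      + 2 * (d + 1) * E ≤ 2 * (q + 3) * (d + 1) * E * (t + 1) := by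
    rw [hEdef]
    nlinarith [Nat.zero_le ((t + 1) * (q * (2 * (d + 1) + e))), Nat.zero_le ((t + 1) * e),
      Nat.zero_le (t + 1)]
  have h1 : 2 * (t + 1) * (Ne * ((q + 3) * ((d + 1) * E))) + (q + 3) * E * (t + 1) * (Nr * (2 * (d + 1)))
      + 2 * (d + 1) * E * (Ns * ((q + 3) * (t + 1))) ≤
      2 * (t + 1) * (g * (d * (1 + (q + 2) * E))) + (q + 3) * E * (t + 1) * g
        + 2 * (d + 1) * E * (g * t) :=
    Nat.add_le_add (Nat.add_le_add (Nat.mul_le_mul_left _ hA) (Nat.mul_le_mul_left _ hB))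
      (Nat.mul_le_mul_left _ hC)
  have h2 := Nat.mul_le_mul_left (2 * (q + 3) * (d + 1) * E * (t + 1)) htot
  have h3 := Nat.mul_le_mul_left g hkey
  have h4 : 2 * (d + 1) * E * g ≤ 2 * (d + 1) * E * ((q + 3) * (t + 1)) := by
    ring_nf at h1 h2 h3 ⊢
    omega
  exact Nat.le_of_mul_le_mul_left h4 (by positivity)

variable {G : Type*} [Group G] [Finite G] {r s : ℕ}

theorem Spec.total (h : Spec G r s) :
    Nat.card G ≤ 1 + numEven G r + num G r + num G s := by
  classical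
  haveI := Fintype.ofFinite G
  have hsub : (Finset.univ : Finset G) ⊆
      ((({1} : Finset G) ∪ Finset.univ.filter (fun g => orderOf g = 2 ∨ orderOf g = 2 * r)) ∪
        Finset.univ.filter (fun g => orderOf g = r)) ∪ Finset.univ.filter (fun g => orderOf g = s) := by
    intro g _
    rcases eq_or_ne g 1 with e | e
    · simp [e]
    · rcases h.ord g e with e' | e' | e' | e' <;> simp [e']
  have := (Finset.card_le_card hsub).trans ((Finset.card_union_le _ _).trans
    (Nat.add_le_add_right ((Finset.card_union_le _ _).trans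
      (Nat.add_le_add_right (Finset.card_union_le _ _) _)) _))
  simpa [numEven, num, Nat.card_eq_fintype_card, Fintype.card_subtype] using this

theorem Spec.two_dvd_cc (h : Spec G r s) {x : G} (hx : orderOf x = r) : 2 ∣ cc x := by
  obtain ⟨g₀, hg₀⟩ := h.two_r
  have hw : orderOf (g₀ ^ r) = 2 := by
    rw [orderOf_pow' _ h.hr.ne_zero, hg₀, Nat.gcd_mul_left_left, Nat.mul_div_cancel _ h.hr.pos]
  have hu : orderOf (g₀ ^ 2) = r := by
    rw [orderOf_pow' _ two_ne_zero, hg₀, Nat.gcd_mul_right_left, Nat.mul_div_cancel_left _ two_pos]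
  rw [h.cc_eq (hx.trans hu.symm)]
  have hmem : g₀ ^ r ∈ centralizer ({g₀ ^ 2} : Set G) :=
    mem_cent.2 (by rw [← pow_add, ← pow_add, add_comm])
  have := orderOf_dvd_natCard (⟨_, hmem⟩ : centralizer ({g₀ ^ 2} : Set G))
  rwa [Subgroup.orderOf_mk, hw] at this

theorem Spec.r_le (h : Spec G r s) [IsSimpleGroup G] (hna : ¬ IsMulCommutative G) [Fact r.Prime]
    (R : Sylow r G) {x : G} (hx : orderOf x = r) {f : ℕ} (hf : f ∣ cc x) (hf2 : ∃ i, f = 2 ^ i) :
    num G r * (2 * f) ≤ Nat.card G := by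
  obtain ⟨i, rfl⟩ := hf2
  obtain ⟨j, hj⟩ := IsPGroup.iff_card.1 R.2
  have hd : 2 ^ i * Nat.card (R : Subgroup G) ∣ cc x := by
    refine Nat.Coprime.mul_dvd_of_dvd_of_dvd ?_ hf (h.sylow_dvd_cc R hx)
    rw [hj]
    exact Nat.Coprime.pow _ _ ((Nat.coprime_primes Nat.prime_two h.hr).2 h.hr2.symm)
  have hle : num G r * (2 * (2 ^ i)) * Nat.card (R : Subgroup G) ≤
      Nat.card G * Nat.card (R : Subgroup G) :=
    calc num G r * (2 * (2 ^ i)) * Nat.card (R : Subgroup G)
        = num G r * (2 * (2 ^ i * Nat.card (R : Subgroup G))) := by ring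
      _ ≤ num G r * (2 * cc x) := Nat.mul_le_mul_left _
          (Nat.mul_le_mul_left _ (Nat.le_of_dvd Nat.card_pos hd))
      _ ≤ Nat.card G * (Nat.card (R : Subgroup G) - 1) := r_bound hna h R hx
      _ ≤ _ := Nat.mul_le_mul_left _ (Nat.sub_le _ _)
  exact Nat.le_of_mul_le_mul_right hle Nat.card_pos

/-- There is no simple group with one class of each order `1, 2, r, s, 2r`. -/
theorem no_spec [IsSimpleGroup G] (hna : ¬ IsMulCommutative G) (h : Spec G r s) : False := by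
  haveI := Fact.mk h.hr
  haveI := Fact.mk h.hs
  obtain ⟨S⟩ : Nonempty (Sylow 2 G) := inferInstance
  obtain ⟨R⟩ : Nonempty (Sylow r G) := inferInstance
  obtain ⟨T⟩ : Nonempty (Sylow s G) := inferInstance
  have htot := h.total
  have hg := h.thirty_le
  have hT0 : 0 < Nat.card (T : Subgroup G) := Nat.card_pos
  obtain ⟨g₀, hg₀⟩ := h.two_r
  have hx₀ : orderOf (g₀ ^ 2) = r := by
    rw [orderOf_pow' _ two_ne_zero, hg₀, Nat.gcd_mul_right_left, Nat.mul_div_cancel_left _ two_pos]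
  have hr2 : num G r * (2 * 2) ≤ Nat.card G :=
    h.r_le hna R hx₀ (h.two_dvd_cc hx₀) ⟨1, rfl⟩
  have hs0 := s_bound hna h T
  have hs2 : num G s * 2 ≤ Nat.card G := by
    refine Nat.le_of_mul_le_mul_right (c := Nat.card (T : Subgroup G)) ?_ hT0
    calc num G s * 2 * Nat.card (T : Subgroup G) = num G s * (2 * Nat.card (T : Subgroup G)) := by
          ring
      _ ≤ _ := hs0.trans (Nat.mul_le_mul_left _ (Nat.sub_le _ _))
  obtain ⟨hM4, hcase⟩ := h.two_side hna S
  set M := Nat.card (S : Subgroup G) with hM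
  obtain ⟨m, hm⟩ : ∃ m, M = 2 ^ m := IsPGroup.iff_card.1 S.2
  obtain ⟨t, ht⟩ := IsPGroup.iff_card.1 T.2
  have hcop : M.Coprime (Nat.card (T : Subgroup G)) := by
    rw [hm, ht]
    exact Nat.Coprime.pow _ _ ((Nat.coprime_primes Nat.prime_two h.hs).2 h.hs2.symm)
  rcases hcase with ⟨p, hp3, hpodd, hNe, hp⟩ | ⟨D, E, hME, hE, hD, hNe, ⟨x, hx, hxD⟩, hN⟩
  · have hNe' : numEven G r * p ≤ Nat.card G := by
      refine Nat.le_of_mul_le_mul_right (c := M) ?_ (by omega)
      rw [mul_assoc]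
      exact hNe.trans (Nat.mul_le_mul_left _ (Nat.sub_le _ _))
    rcases Nat.lt_or_ge p 5 with hp5 | hp5
    · obtain rfl : p = 3 := by
        obtain ⟨k, hk⟩ := hpodd
        omega
      rcases hp hp5 with h4 | ⟨x, hx, hx4⟩
      · rw [h4] at hNe hcop
        have hfour : 4 * Nat.card (T : Subgroup G) ≤ Nat.card G := by
          refine Nat.le_of_dvd Nat.card_pos (Nat.Coprime.mul_dvd_of_dvd_of_dvd hcop ?_
            (card_subgroup_dvd_card _))
          exact h4 ▸ card_subgroup_dvd_card (S : Subgroup G)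
        obtain ⟨u, hu⟩ : ∃ u, Nat.card (T : Subgroup G) = u + 1 :=
          ⟨Nat.card (T : Subgroup G) - 1, by omega⟩
        rw [hu, Nat.add_sub_cancel] at hs0
        rw [hu] at hfour
        nlinarith
      · have := h.r_le hna R hx hx4 ⟨2, rfl⟩
        omega
    · have : numEven G r * 5 ≤ Nat.card G := le_trans (Nat.mul_le_mul_left _ hp5) hNe'
      omega
  · have hDi : ∃ i, D = 2 ^ i :=
      ((Nat.dvd_prime_pow Nat.prime_two).1 (hm ▸ ⟨E, hME⟩ : D ∣ 2 ^ m)).imp fun i hi => hi.2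
    have hB := h.r_le hna R hx hxD hDi
    have hC : num G s * (r * Nat.card (T : Subgroup G)) ≤
        Nat.card G * (Nat.card (T : Subgroup G) - 1) :=
      ((Nat.mul_le_mul_left _ (Nat.le_of_dvd Nat.card_pos (hN T))).trans
        (s_bound_normalizer h T)).trans (Nat.mul_le_mul_left _
          (Nat.sub_le_sub_right (Subgroup.card_le_of_le (ctr_le _)) 1))
    have hle := arith_frobenius (Nat.lt_of_le_of_ne h.hr.two_le h.hr2.symm) hD hE hT0 htot
      (hME ▸ hNe) hB hC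
    have hcop' : M.Coprime (r * Nat.card (T : Subgroup G)) := by
      refine Nat.Coprime.mul_right ?_ hcop
      rw [hm]
      exact Nat.Coprime.pow_left _ ((Nat.coprime_primes Nat.prime_two h.hr).2 h.hr2.symm)
    have hbig : M * (r * Nat.card (T : Subgroup G)) ≤ Nat.card G :=
      Nat.le_of_dvd Nat.card_pos (Nat.Coprime.mul_dvd_of_dvd_of_dvd hcop'
        (card_subgroup_dvd_card _) ((hN T).trans (card_subgroup_dvd_card _)))
    have : 0 < r * Nat.card (T : Subgroup G) := Nat.mul_pos h.hr.pos hT0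
    nlinarith

end CfsgLib.FiveOrbits
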