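import Mathlib
import Cfsg.Prelude.Def_Sz
import Cfsg.Agent.FiveOrbits.NoSpec
import Cfsg.Agent.PrimeOrders.Basic
import Cfsg.Agent.PSLTwoSpectrum.Orders
import Cfsg.Agent.EPPOFour.Main
import Cfsg.Agent.EPPOFour.Simple
import Cfsg.Agent.CITGroups.Main
import Cfsg.Agent.CITGroups.SuzukiUpgrade
import Cfsg.Agent.S0205
import Cfsg.Agent.S0252
import Cfsg.Agent.S1230

/-!
# Simple groups with at most five automorphism orbits
-/

set_option autoImplicit false
set_option linter.style.haveILetI false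
set_option maxHeartbeats 1000000

namespace CfsgLib.FiveOrbits

open Subgroup

variable {G : Type*} [Group G] [Finite G]

/-- The set of element orders. -/
noncomputable def orders (G : Type*) [Group G] [Finite G] : Finset ℕ :=
  haveI := Fintype.ofFinite G
  Finset.univ.image fun g : G => orderOf g

theorem mem_orders {n : ℕ} : n ∈ orders G ↔ ∃ g : G, orderOf g = n := by
  unfold orders
  simp

theorem mem_orders_of_dvd {n d : ℕ} (hn : n ∈ orders G) (hd : d ∣ n) : d ∈ orders G := by
  obtain ⟨g, rfl⟩ := mem_orders.1 hn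
  exact mem_orders.2 ⟨_, orderOf_pow_orderOf_div (orderOf_pos g).ne' hd⟩

theorem insert_one_subset : insert 1 (Nat.card G).primeFactors ⊆ orders G := by
  intro m hm
  rw [Finset.mem_insert] at hm
  rcases hm with rfl | hm
  · exact mem_orders.2 ⟨1, orderOf_one⟩
  · haveI := Fact.mk (Nat.prime_of_mem_primeFactors hm)
    exact mem_orders.2 (exists_prime_orderOf_dvd_card' m (Nat.dvd_of_mem_primeFactors hm))

theorem card_orders_le (h5 : Nat.card (MulAction.orbitRel.Quotient (MulAut G) G) ≤ 5) :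
    (orders G).card ≤ 5 ∧
      (5 ≤ (orders G).card → ∀ a b : G, orderOf a = orderOf b → ∃ φ : MulAut G, φ a = b) := by
  classical
  haveI := Fintype.ofFinite (MulAction.orbitRel.Quotient (MulAut G) G)
  let f : MulAction.orbitRel.Quotient (MulAut G) G → ℕ := Quotient.lift orderOf (by
    rintro a b ⟨σ, rfl⟩
    exact orderOf_injective σ.toMonoidHom σ.injective b)
  have heq : orders G = Finset.univ.image f := by
    ext n
    rw [mem_orders, Finset.mem_image]
    constructor
    · rintro ⟨g, rfl⟩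
      exact ⟨Quotient.mk'' g, Finset.mem_univ _, rfl⟩
    · rintro ⟨o, -, rfl⟩
      induction o using Quotient.inductionOn' with
      | _ g => exact ⟨g, rfl⟩
  rw [Nat.card_eq_fintype_card] at h5
  rw [heq]
  refine ⟨Finset.card_image_le.trans h5, fun hge a b hab => ?_⟩
  have hinj : Set.InjOn f (Finset.univ : Finset (MulAction.orbitRel.Quotient (MulAut G) G)) :=
    Finset.card_image_iff.1 (le_antisymm Finset.card_image_le (h5.trans hge))
  have := hinj (Finset.mem_coe.2 (Finset.mem_univ (Quotient.mk'' a)))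
    (Finset.mem_coe.2 (Finset.mem_univ (Quotient.mk'' b))) hab
  obtain ⟨σ, hσ⟩ : b ∈ MulAction.orbit (MulAut G) a :=
    MulAction.mem_orbit_symm.1 (Quotient.exact' this)
  exact ⟨σ, hσ⟩

theorem three_le_primeFactors [IsSimpleGroup G] (hna : ¬ IsMulCommutative G) :
    3 ≤ (Nat.card G).primeFactors.card ∧ 2 ∈ (Nat.card G).primeFactors := by
  have hns : ¬ Group.IsSolvable G := fun h =>
    hna ⟨⟨IsSimpleGroup.comm_iff_isSolvable.2 h⟩⟩
  refine ⟨?_, ?_⟩
  · by_contra hlt
    exact hns (CfsgLib.PrimeOrders.isSolvable_of_primeFactors_card_le_two (by omega))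
  · refine Nat.mem_primeFactors.2 ⟨Nat.prime_two, ?_, Nat.card_pos.ne'⟩
    rw [← even_iff_two_dvd]
    by_contra h
    exact hns (Cfsg.Agent.S0205.result (Nat.not_even_iff_odd.1 h))

/-- The numerical alternative for the two torus orders. -/
theorem q_eq {P O : Finset ℕ} (hP : ∀ p ∈ P, p.Prime) (h2 : 2 ∈ P) (h3 : 3 ≤ P.card)
    (hsub : insert 1 P ⊆ O) (h5 : O.card ≤ 5)
    (hdvd : ∀ x ∈ O, ∀ d, d ∣ x → d ∈ O) (hPO : ∀ x ∈ O, ∀ p, p.Prime → p ∣ x → p ∈ P)
    {q n : ℕ} (hq : q = 2 ^ n) (hn : 2 ≤ n) (ha : q - 1 ∈ O) (hb : q + 1 ∈ O) :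
    q = 4 ∨ q = 8 := by
  classical
  have h1P : (1 : ℕ) ∉ P := fun h => Nat.not_prime_one (hP 1 h)
  have hcard := Finset.card_le_card hsub
  rw [Finset.card_insert_of_notMem h1P] at hcard
  have hq4 : 4 ≤ q := by
    rw [hq]
    exact le_trans (by norm_num) (Nat.pow_le_pow_right two_pos hn)
  have h4q : 4 ∣ q := hq ▸ pow_dvd_pow 2 hn
  set X := O \ insert 1 P with hX
  have hXc : X.card + (P.card + 1) = O.card := by
    rw [← Finset.card_insert_of_notMem h1P, hX, Finset.card_sdiff_add_card_eq_card hsub]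
  have hXmem : ∀ x ∈ O, 1 < x → ¬ x.Prime → x ∈ X := fun x hx h1 hnp =>
    Finset.mem_sdiff.2 ⟨hx, fun h => by
      rcases Finset.mem_insert.1 h with e | e
      · omega
      · exact hnp (hP x e)⟩
  have hX1 : ∀ x ∈ X, ∀ y ∈ X, x = y := Finset.card_le_one.1 (by omega)
  have hmixed : ∀ ℓ x, ℓ.Prime → ℓ ≠ 2 → ℓ ∈ O → x ∈ O → 1 < x → ¬ x.Prime → Odd x →
      ¬ ℓ ∣ x → ∃ p, p.Prime ∧ p ≠ 2 ∧ x = p ^ 2 := by
    intro ℓ x hℓ hℓ2 hℓO hxO hx1 hxp hxodd hℓx
    have hxX := hXmem x hxO hx1 hxp
    have hX0 : 1 ≤ X.card := Finset.card_pos.2 ⟨x, hxX⟩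
    have hℓP := hPO ℓ hℓO ℓ hℓ dvd_rfl
    obtain ⟨p, hp, hpd⟩ := Nat.exists_prime_and_dvd hx1.ne'
    have hp2 : p ≠ 2 := fun e => by
      obtain ⟨k, hk⟩ := hxodd
      obtain ⟨c, hc⟩ := e ▸ hpd
      omega
    have hpℓ : p ≠ ℓ := fun e => hℓx (e ▸ hpd)
    have hPeq : ({2, ℓ, p} : Finset ℕ) = P := by
      refine Finset.eq_of_subset_of_card_le ?_ ?_
      · simp [Finset.insert_subset_iff, h2, hℓP, hPO x hxO p hp hpd]
      · rw [Finset.card_insert_of_notMem (by simp [hℓ2.symm, hp2.symm]),
          Finset.card_pair hpℓ.symm]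
        omega
    obtain ⟨k, hk⟩ : ∃ k, x = p ^ k := by
      refine ⟨_, Nat.eq_prime_pow_of_unique_prime_dvd (by omega) fun {d} hd hdx => ?_⟩
      have := hPO x hxO d hd hdx
      rw [← hPeq] at this
      simp only [Finset.mem_insert, Finset.mem_singleton] at this
      rcases this with e | e | e
      · obtain ⟨k, hk⟩ := hxodd
        obtain ⟨c, hc⟩ := e ▸ hdx
        omega
      · exact absurd (e ▸ hdx) hℓx
      · exact e
    have hk2 : 2 ≤ k := by
      rcases (show k = 0 ∨ k = 1 ∨ 2 ≤ k by omega) with rfl | rfl | h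
      · simp [hk] at hx1
      · exact absurd (by rw [hk, pow_one]; exact hp) hxp
      · exact h
    refine ⟨p, hp, hp2, ?_⟩
    refine hX1 x hxX (p ^ 2) (hXmem _ (hdvd x hxO _ (hk ▸ pow_dvd_pow p hk2)) ?_ ?_)
    · exact Nat.one_lt_pow two_ne_zero hp.one_lt
    · rw [pow_two]
      exact Nat.not_prime_mul hp.one_lt.ne' hp.one_lt.ne'
  have hodd1 : Odd (q - 1) := by
    rw [Nat.odd_iff]
    omega
  have hodd2 : Odd (q + 1) := by
    rw [Nat.odd_iff]
    omega
  have hcop : ∀ d, d ∣ q - 1 → d ∣ q + 1 → d ∣ 2 := fun d h1 h2 => by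
    have := Nat.dvd_sub h2 h1
    rwa [show q + 1 - (q - 1) = 2 by omega] at this
  by_cases hpa : (q - 1).Prime <;> by_cases hpb : (q + 1).Prime
  · left
    have h3q : ¬ 3 ∣ q := fun h => by
      have := Nat.prime_three.dvd_of_dvd_pow (hq ▸ h)
      norm_num at this
    rcases (show 3 ∣ q - 1 ∨ 3 ∣ q + 1 by
      rcases (show q % 3 = 1 ∨ q % 3 = 2 by omega) with e | e
      · exact Or.inl (by omega)
      · exact Or.inr (by omega)) with e | e
    · have := (Nat.prime_dvd_prime_iff_eq Nat.prime_three hpa).1 e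
      omega
    · have := (Nat.prime_dvd_prime_iff_eq Nat.prime_three hpb).1 e
      omega
  · obtain ⟨p, hp, hp2, he⟩ := hmixed (q - 1) (q + 1) hpa (fun e => by omega) ha hb (by omega) hpb
      hodd2 fun h => by
        have := Nat.le_of_dvd two_pos (hcop _ dvd_rfl h)
        omega
    right
    obtain ⟨k, rfl⟩ : ∃ k, p = k + 2 := ⟨p - 2, by have := hp.two_le; omega⟩
    have hq' : q = (k + 1) * (k + 3) := by
      have : (k + 2) ^ 2 = (k + 1) * (k + 3) + 1 := by ring
      omega
    obtain ⟨i, -, hi⟩ := (Nat.dvd_prime_pow Nat.prime_two).1 (hq ▸ hq' ▸ dvd_mul_right (k + 1) (k + 3))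
    obtain ⟨j, -, hj⟩ := (Nat.dvd_prime_pow Nat.prime_two).1 (hq ▸ hq' ▸ dvd_mul_left (k + 3) (k + 1))
    have h2j : 2 ≤ j := by
      by_contra hlt
      rcases (show j = 0 ∨ j = 1 by omega) with e | e <;> rw [e] at hj <;> omega
    have h4j : 4 ∣ k + 3 := hj ▸ pow_dvd_pow 2 h2j
    rcases (show i = 0 ∨ i = 1 ∨ 2 ≤ i by omega) with e | e | e
    · rw [e] at hi
      exact absurd (show k + 2 = 2 by omega) hp2
    · rw [e] at hi
      rw [hq', show k = 1 by omega]
    · have h4i : 4 ∣ k + 1 := hi ▸ pow_dvd_pow 2 e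
      omega
  · exfalso
    obtain ⟨p, hp, hp2, he⟩ := hmixed (q + 1) (q - 1) hpb (fun e => by omega) hb ha (by omega) hpa
      hodd1 fun h => by
        have := Nat.le_of_dvd two_pos (hcop _ h dvd_rfl)
        omega
    obtain ⟨k, rfl⟩ := hp.odd_of_ne_two hp2
    have : (2 * k + 1) ^ 2 = 4 * (k * k + k) + 1 := by ring
    omega
  · exact absurd (hX1 _ (hXmem _ ha (by omega) hpa) _ (hXmem _ hb (by omega) hpb)) (by omega)

theorem main [IsSimpleGroup G] (hna : ¬ IsMulCommutative G)
    (h5 : Nat.card (MulAction.orbitRel.Quotient (MulAut G) G) ≤ 5) :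
    Nonempty (G ≃* ↥(alternatingGroup (Fin 5))) ∨ Nonempty (G ≃* ↥(alternatingGroup (Fin 6))) ∨
      (∃ (F : Type) (_ : Field F) (_ : Fintype F), (Fintype.card F = 7 ∨ Fintype.card F = 8) ∧
        Nonempty (G ≃* Matrix.ProjectiveSpecialLinearGroup (Fin 2) F)) := by
  classical
  haveI : Fact (Nat.Prime 2) := ⟨Nat.prime_two⟩
  obtain ⟨hO5, haut⟩ := card_orders_le h5
  obtain ⟨hP3, hP2⟩ := three_le_primeFactors (G := G) hna
  set O := orders G with hO
  set P := (Nat.card G).primeFactors with hP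
  have hPprime : ∀ p ∈ P, p.Prime := fun p hp => Nat.prime_of_mem_primeFactors hp
  have hsub : insert 1 P ⊆ O := insert_one_subset
  have h1P : (1 : ℕ) ∉ P := fun h => Nat.not_prime_one (hPprime 1 h)
  have hPO : ∀ x ∈ O, ∀ p, p.Prime → p ∣ x → p ∈ P := by
    intro x hx p hp hd
    obtain ⟨g, rfl⟩ := mem_orders.1 hx
    exact Nat.mem_primeFactors.2 ⟨hp, hd.trans (orderOf_dvd_natCard g), Nat.card_pos.ne'⟩
  have hord : ∀ g : G, orderOf g ∈ O := fun g => mem_orders.2 ⟨g, rfl⟩
  have h2G : 2 ∣ Nat.card G := Nat.dvd_of_mem_primeFactors hP2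
  by_cases hcase : ∀ g : G, 2 ∣ orderOf g → orderOf g = 2
  · -- every involution centraliser is an elementary abelian two-group
    have hC : ∀ t : G, orderOf t = 2 →
        IsMulCommutative (centralizer ({t} : Set G)) ∧
          ∀ c ∈ centralizer ({t} : Set G), c ^ 2 = 1 := by
      intro t ht
      have hsq : ∀ c ∈ centralizer ({t} : Set G), c ^ 2 = 1 := by
        intro c hc
        rcases Nat.even_or_odd (orderOf c) with he | ho
        · rw [← hcase c (even_iff_two_dvd.1 he), pow_orderOf_eq_one]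
        · have hcop : (orderOf c).Coprime (orderOf t) := by
            rw [ht]
            exact (Nat.prime_two.coprime_iff_not_dvd.2 fun h =>
              Nat.not_even_iff_odd.2 ho (even_iff_two_dvd.2 h)).symm
          have hmul : orderOf (c * t) = orderOf c * 2 := by
            rw [(show Commute c t from mem_cent.1 hc).orderOf_mul_eq_mul_orderOf_of_coprime hcop, ht]
          have := hcase (c * t) (hmul ▸ dvd_mul_left 2 _)
          rw [hmul] at this
          rw [orderOf_eq_one_iff.1 (show orderOf c = 1 by omega), one_pow]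
      refine ⟨⟨⟨fun a b => Subtype.ext ?_⟩⟩, hsq⟩
      have e : ∀ c ∈ centralizer ({t} : Set G), c⁻¹ = c := fun c hc =>
        inv_eq_of_mul_eq_one_left (by rw [← pow_two]; exact hsq c hc)
      show (a : G) * b = b * a
      conv_lhs => rw [← e _ (mul_mem a.2 b.2), mul_inv_rev, e _ a.2, e _ b.2]
    obtain ⟨T⟩ : Nonempty (Sylow 2 G) := inferInstance
    have hTc : ¬ IsCyclic (T : Subgroup G) := fun hc =>
      no_burnside hna h2G T
        (IsCyclic.normalizer_le_centralizer ((Nat.minFac_eq_two_iff _).2 h2G) hc)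
    have hTn : ¬ (T : Subgroup G).Normal := by
      intro hn
      rcases IsSimpleGroup.eq_bot_or_eq_top_of_normal (T : Subgroup G) hn with e | e
      · exact T.ne_bot_of_dvd_card h2G e
      · obtain ⟨m, hm⟩ := IsPGroup.iff_card.1 T.2
        rw [e, card_top] at hm
        have hle : P ⊆ {2} := fun p hp => Finset.mem_singleton.2
          (Nat.prime_eq_prime_of_dvd_pow (hPprime p hp) Nat.prime_two
            (hm ▸ Nat.dvd_of_mem_primeFactors hp))
        have := Finset.card_le_card hle
        rw [Finset.card_singleton] at this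
        omega
    obtain ⟨F, i1, i2, hF, ⟨e⟩⟩ := Cfsg.Agent.S1230.result T hTc hTn hC
    obtain ⟨n, hn⟩ := IsPGroup.iff_card.1 T.2
    have hn2 : 2 ≤ n := by
      by_contra hlt
      apply hTc
      rcases (show n = 0 ∨ n = 1 by omega) with e' | e'
      · haveI : Subsingleton (T : Subgroup G) := (Nat.card_eq_one_iff_unique.1 (by rw [hn, e', pow_zero])).1
        infer_instance
      · exact isCyclic_of_prime_card (p := 2) (by rw [hn, e', pow_one])
    have hq : Fintype.card F = 2 ^ n := hF.trans hn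
    have h4 : 4 ≤ Fintype.card F := hq ▸ le_trans (by norm_num) (Nat.pow_le_pow_right two_pos hn2)
    have hgcd : Nat.gcd 2 (Fintype.card F - 1) = 1 := by
      refine Nat.Prime.coprime_iff_not_dvd Nat.prime_two |>.2 ?_
      have : 2 ∣ Fintype.card F := hq ▸ dvd_pow_self 2 (by omega)
      omega
    obtain ⟨⟨x, hx⟩, ⟨y, hy⟩⟩ := PSLTwoSpectrum.exists_orders (F := F) h4
    rw [hgcd, Nat.div_one] at hx hy
    have hb : Fintype.card F + 1 ∈ O := hx ▸ e.symm.orderOf_eq x ▸ hord (e.symm x)
    have ha : Fintype.card F - 1 ∈ O := hy ▸ e.symm.orderOf_eq y ▸ hord (e.symm y)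
    rcases q_eq hPprime hP2 hP3 hsub hO5 (fun x hx d hd => mem_orders_of_dvd hx hd) hPO hq hn2 ha hb
      with h | h
    · obtain ⟨e'⟩ := Cfsg.Agent.S0252.result h
      exact Or.inl ⟨e.trans e'⟩
    · exact Or.inr (Or.inr ⟨F, i1, i2, Or.inr h, ⟨e⟩⟩)
  push_neg at hcase
  obtain ⟨g₁, hg₁, hg₁ne⟩ := hcase
  have hx : orderOf g₁ ∉ insert 1 P := by
    intro h
    rcases Finset.mem_insert.1 h with e | e
    · rw [e] at hg₁
      norm_num at hg₁
    · exact hg₁ne ((Nat.prime_dvd_prime_iff_eq Nat.prime_two (hPprime _ e)).1 hg₁).symm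
  have hOeq : insert (orderOf g₁) (insert 1 P) = O := by
    refine Finset.eq_of_subset_of_card_le (Finset.insert_subset (hord g₁) hsub) ?_
    rw [Finset.card_insert_of_notMem hx, Finset.card_insert_of_notMem h1P]
    omega
  have hPc : P.card = 3 := by
    have := congrArg Finset.card hOeq
    rw [Finset.card_insert_of_notMem hx, Finset.card_insert_of_notMem h1P] at this
    omega
  have hO5' : 5 ≤ O.card := by
    rw [← hOeq, Finset.card_insert_of_notMem hx, Finset.card_insert_of_notMem h1P]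
    omega
  have hcases : ∀ g : G, g ≠ 1 → orderOf g = orderOf g₁ ∨ (orderOf g).Prime := by
    intro g hg
    have := hord g
    rw [← hOeq] at this
    simp only [Finset.mem_insert] at this
    rcases this with e | e | e
    · exact Or.inl e
    · exact absurd (orderOf_eq_one_iff.1 e) hg
    · exact Or.inr (hPprime _ e)
  by_cases h4x : 4 ∣ orderOf g₁
  · -- all orders are prime powers
    have hx4 : orderOf g₁ = 4 := by
      have h4O : 4 ∈ O := mem_orders_of_dvd (hord g₁) h4x
      rw [← hOeq] at h4O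
      simp only [Finset.mem_insert] at h4O
      rcases h4O with e | e | e
      · exact e.symm
      · norm_num at e
      · exact absurd (hPprime 4 e) (by norm_num)
    have hpp : ∀ g : G, g ≠ 1 → IsPrimePow (orderOf g) := fun g hg => by
      rcases hcases g hg with e | e
      · rw [e, hx4]
        exact (isPrimePow_nat_iff 4).2 ⟨2, 2, Nat.prime_two, two_pos, by norm_num⟩
      · exact e.isPrimePow
    have hna' : ∃ a b : G, a * b ≠ b * a := by
      by_contra! h
      exact hna ⟨⟨h⟩⟩
    have hlist := EPPOFour.simpleList_of_cit hna hpp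
      ((CITGroups.simple_classification hna' (EPPOFour.isCIT hpp)).imp id
        (Or.imp id fun ⟨_, K, hS⟩ => K.isoSuzuki hS))
    have hfour : ∀ {a b c d : ℕ}, a.Prime → b.Prime → c.Prime → d.Prime →
        a ∣ Nat.card G → b ∣ Nat.card G → c ∣ Nat.card G → d ∣ Nat.card G →
        ({a, b, c, d} : Finset ℕ).card = 4 → False := by
      intro a b c d pa pb pc pd ha hb hc hd h
      have hle : ({a, b, c, d} : Finset ℕ) ⊆ P := by
        simp [Finset.insert_subset_iff, hP, Nat.mem_primeFactors, pa, pb, pc, pd, ha, hb, hc, hd,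
          Nat.card_pos.ne']
      have := Finset.card_le_card hle
      omega
    rcases hlist with h | ⟨F, i1, i2, hF, ⟨e⟩⟩ | ⟨F, i1, i2, hF, ⟨e⟩⟩ | ⟨F, i1, i2, hF⟩
    · exact Or.inr (Or.inl h)
    · simp only [Finset.mem_insert, Finset.mem_singleton] at hF
      rcases hF with h | h | h | h
      · obtain ⟨e'⟩ := Cfsg.Agent.S0252.result h
        exact Or.inl ⟨e.trans e'⟩
      · exact Or.inr (Or.inr ⟨F, i1, i2, Or.inl h, ⟨e⟩⟩)
      · exact Or.inr (Or.inr ⟨F, i1, i2, Or.inr h, ⟨e⟩⟩)
      · exfalso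
        obtain ⟨⟨x, hx'⟩, -⟩ := PSLTwoSpectrum.exists_orders (F := F) (by omega)
        rw [h] at hx'
        norm_num at hx'
        rcases hcases (e.symm x) (fun h1 => by
            rw [← e.symm.orderOf_eq x, h1, orderOf_one] at hx'
            omega) with e1 | e1 <;> rw [e.symm.orderOf_eq, hx'] at e1
        · omega
        · norm_num at e1
    · have hc : Nat.card G = 20160 :=
        (Nat.card_congr e.toEquiv).trans (EPPOFour.card_psl_three_four hF)
      exact (hfour Nat.prime_two Nat.prime_three Nat.prime_five (show Nat.Prime 7 by norm_num)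
        (by rw [hc]; norm_num) (by rw [hc]; norm_num) (by rw [hc]; norm_num) (by rw [hc]; norm_num)
        (by decide)).elim
    · exfalso
      rcases hF with ⟨hF, ⟨e⟩⟩ | ⟨hF, ⟨e⟩⟩
      · have hc : Nat.card G = _ := (Nat.card_congr e.toEquiv).trans
          (EPPOFour.card_lie_sz (m := 1) le_rfl (by simpa using hF))
        rw [hF] at hc
        norm_num at hc
        exact hfour Nat.prime_two Nat.prime_five (show Nat.Prime 7 by norm_num)
          (show Nat.Prime 13 by norm_num)
          (by rw [hc]; norm_num) (by rw [hc]; norm_num) (by rw [hc]; norm_num) (by rw [hc]; norm_num)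
          (by decide)
      · have hc : Nat.card G = _ := (Nat.card_congr e.toEquiv).trans
          (EPPOFour.card_lie_sz (m := 2) (by norm_num) (by simpa using hF))
        rw [hF] at hc
        norm_num at hc
        exact hfour Nat.prime_two Nat.prime_five (show Nat.Prime 31 by norm_num)
          (show Nat.Prime 41 by norm_num)
          (by rw [hc]; norm_num) (by rw [hc]; norm_num) (by rw [hc]; norm_num) (by rw [hc]; norm_num)
          (by decide)
  · -- the spectrum `1, 2, r, s, 2r`
    exfalso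
    obtain ⟨m, hm⟩ := hg₁
    obtain ⟨r, hr, hrd⟩ := Nat.exists_prime_and_dvd (n := m) (fun e => hg₁ne (by rw [hm, e]))
    have hr2 : r ≠ 2 := fun e => h4x (by rw [hm]; exact mul_dvd_mul_left 2 (e ▸ hrd))
    have hx2r : orderOf g₁ = 2 * r := by
      have h2r : 2 * r ∈ O := mem_orders_of_dvd (hord g₁) (hm ▸ mul_dvd_mul_left 2 hrd)
      rw [← hOeq] at h2r
      simp only [Finset.mem_insert] at h2r
      rcases h2r with e | e | e
      · exact e.symm
      · omega
      · exact absurd (hPprime _ e) (Nat.not_prime_mul (by norm_num) hr.one_lt.ne')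
    have hrP : r ∈ P := hPO _ (hord g₁) r hr (hx2r ▸ dvd_mul_left r 2)
    obtain ⟨s, hsP, hs⟩ : ∃ s ∈ P, s ∉ ({2, r} : Finset ℕ) :=
      Finset.exists_mem_notMem_of_card_lt_card (Finset.card_le_two.trans_lt (by omega))
    simp only [Finset.mem_insert, Finset.mem_singleton, not_or] at hs
    have hPeq : ({2, r, s} : Finset ℕ) = P := by
      refine Finset.eq_of_subset_of_card_le ?_ ?_
      · simp [Finset.insert_subset_iff, hP2, hrP, hsP]
      · rw [Finset.card_insert_of_notMem (by simp [hr2.symm, Ne.symm hs.1]),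
          Finset.card_pair (Ne.symm hs.2), hPc]
    refine no_spec hna (r := r) (s := s)
      { hr := hr
        hs := hPprime s hsP
        hr2 := hr2
        hs2 := hs.1
        hrs := Ne.symm hs.2
        ord := fun g hg => ?_
        two_r := ⟨g₁, hx2r⟩
        ex_s := mem_orders.1 (hsub (Finset.mem_insert_of_mem hsP))
        aut := haut hO5' }
    have := hord g
    rw [← hOeq, ← hPeq] at this
    simp only [Finset.mem_insert, Finset.mem_singleton] at this
    rcases this with e | e | e | e | e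
    · exact Or.inr (Or.inr (Or.inr (e.trans hx2r)))
    · exact absurd (orderOf_eq_one_iff.1 e) hg
    · exact Or.inl e
    · exact Or.inr (Or.inl e)
    · exact Or.inr (Or.inr (Or.inl e))

end CfsgLib.FiveOrbits
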